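import Mathlib
import Cfsg.Agent.Lib.Helper46.Shult.Tg

set_option autoImplicit false
set_option linter.unusedSectionVars false
set_option linter.unusedVariables false

namespace Cfsg.Agent.Lib.Helper85.Gross

open scoped commutatorElement
open Cfsg.Agent.Lib.Helper46.Shult

/-- [Dabs] -/
theorem D_abs {A : Type*} [CommGroup A] [Finite A] {Q : Type*} [Group Q] [Finite Q]
    {q r : ℕ} (hq : q.Prime) (hr : r.Prime) (hqr : q ≠ r) (hr2 : r ≠ 2)
    (hexp : ∀ a : A, a ^ r = 1) (hQ : IsPGroup q Q)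
    (n : ℕ) (σ : MulAut Q) (hσ : σ ^ 2 ^ (n + 2) = 1)
    (hτf : ∀ g, (σ ^ 2 ^ (n + 1)) g = g → g = 1)
    (c : Q →* MulAut A) (X : MulAut A) (hX : X ^ 2 ^ (n + 2) = 1)
    (tw : ∀ g, X * c g = c (σ g) * X) (hXf : ∀ a, X a = a → a = 1) :
    ∀ g, c g = 1 := by
  have : Fact r.Prime := ⟨hr⟩
  have : Fact q.Prime := ⟨hq⟩
  let _ : Module (ZMod r) (Additive A) := AddCommGroup.zmodModule (n := r) (by
    intro a
    exact congrArg Additive.ofMul (hexp (Additive.toMul a)))
  obtain ⟨d, Φ, h1, h2⟩ := Cfsg.Agent.Lib.Helper46.ESBridge.exists_rep_of_action (p := r)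
    (Cfsg.Agent.Lib.Lead.mulAutToEnd A)
  have hne : ∀ m : ℕ, m.Prime → m ≠ r → ((m : ℕ) : AlgebraicClosure (ZMod r)) ≠ 0 := by
    intro m hm hmr h0
    have : CharP (AlgebraicClosure (ZMod r)) r := inferInstance
    rw [CharP.cast_eq_zero_iff (AlgebraicClosure (ZMod r)) r] at h0
    exact hmr ((Nat.prime_dvd_prime_iff_eq hr hm).mp h0).symm
  obtain ⟨cQ, hcQ⟩ := IsPGroup.iff_card.1 hQ
  have key := trivial_of_fpf_powers (E := AlgebraicClosure (ZMod r))
    (U := Fin d → AlgebraicClosure (ZMod r)) (Φ.comp c) (Φ X) σ (2 ^ (n + 2)) (by positivity)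
    (by rw [← map_pow, hX, map_one])
    (by
      intro g
      rw [MonoidHom.comp_apply, MonoidHom.comp_apply, ← map_mul, ← map_mul, tw])
    (by
      intro k hk0 hk g hg
      exact hτf g (fix_tau_of_fix_pow (p := 2) (n := n + 1) Nat.prime_two hσ hk0 hk hg))
    (by
      rw [hcQ, Nat.cast_pow]
      exact pow_ne_zero _ (hne q hq hqr))
    (by
      apply h2 X
      intro a ha
      rw [Cfsg.Agent.Lib.Lead.mulAutToEnd_apply] at ha
      have h3 : X (Additive.toMul a) = Additive.toMul a := congrArg Additive.toMul ha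
      exact congrArg Additive.ofMul (hXf _ h3))
  intro g
  have h3 := key g
  rw [MonoidHom.comp_apply] at h3
  have h5 := h1 _ h3
  apply Cfsg.Agent.Lib.Lead.mulAutToEnd_injective A
  rw [h5, map_one]

end Cfsg.Agent.Lib.Helper85.Gross
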