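import Mathlib
import Cfsg.Agent.Lib.Helper46.Shult.K
import Cfsg.Agent.Lib.Helper85.Gross.Dabs

set_option autoImplicit false
set_option linter.unusedSectionVars false
set_option linter.unusedVariables false

namespace Cfsg.Agent.Lib.Helper85.Gross

open scoped commutatorElement
open Cfsg.Agent.Lib.Helper1.FPF
open Cfsg.Agent.Lib.Helper46.Shult

/-- [M2] tau fixes every abelian sigma-invariant subgroup pointwise. -/
theorem M2 {A : Type*} [CommGroup A] [Finite A] {Q : Type*} [Group Q] [Finite Q]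
    {q r : ℕ} (hq : q.Prime) (hr : r.Prime) (hqr : q ≠ r) (hq2 : q ≠ 2) (hr2 : r ≠ 2)
    (hexp : ∀ a : A, a ^ r = 1) (hQ : IsPGroup q Q)
    (n : ℕ) (σ : MulAut Q) (hσ : σ ^ 2 ^ (n + 2) = 1)
    (c : Q →* MulAut A) (hc : Function.Injective c) (X : MulAut A) (hX : X ^ 2 ^ (n + 2) = 1)
    (tw : ∀ g, X * c g = c (σ g) * X) (hXf : ∀ a, X a = a → a = 1)
    (H : Subgroup Q) (hHσ : ∀ g ∈ H, σ g ∈ H) (hHab : ∀ g ∈ H, ∀ h ∈ H, g * h = h * g) :
    ∀ g ∈ H, (σ ^ 2 ^ (n + 1)) g = g := by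
  set τ : MulAut Q := σ ^ 2 ^ (n + 1) with hτ
  have hτ2 : τ * τ = 1 := by
    rw [hτ, ← pow_add, ← two_mul, ← pow_succ', hσ]
  have hττ : ∀ g, τ (τ g) = g := by
    intro g
    have := congrArg (fun f : MulAut Q => f g) hτ2
    simpa using this
  have hcomm : ∀ g, σ (τ g) = τ (σ g) := by
    intro g
    have : σ * τ = τ * σ := by rw [hτ, ← pow_succ', ← pow_succ]
    exact congrArg (fun f : MulAut Q => f g) this
  have hHpow : ∀ k : ℕ, ∀ g ∈ H, (σ ^ k) g ∈ H := by
    intro k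
    induction k with
    | zero => intro g hg; simpa using hg
    | succ k ih =>
      intro g hg
      rw [pow_succ']
      exact hHσ _ (ih g hg)
  have hHτ : ∀ g ∈ H, τ g ∈ H := hHpow _
  set A0 := Subgroup.closure {y : Q | ∃ g ∈ H, y = τ g * g⁻¹} with hA0
  have hA0H : A0 ≤ H := by
    rw [hA0, Subgroup.closure_le]
    rintro _ ⟨g, hg, rfl⟩
    exact H.mul_mem (hHτ g hg) (H.inv_mem hg)
  have hinv : ∀ a ∈ A0, τ a = a⁻¹ := by
    intro a ha
    induction ha using Subgroup.closure_induction with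
    | mem y hy =>
      obtain ⟨g, hg, rfl⟩ := hy
      rw [map_mul, map_inv, hττ, mul_inv_rev, inv_inv]
    | one => simp
    | mul a b ha hb iha ihb =>
      rw [map_mul, iha, ihb, mul_inv_rev]
      exact hHab _ (H.inv_mem (hA0H ha)) _ (H.inv_mem (hA0H hb))
    | inv a _ iha => rw [map_inv, iha]
  have hA0σ : A0.map (σ : Q →* Q) = A0 := by
    have hle : A0.map (σ : Q →* Q) ≤ A0 := by
      rw [hA0, MonoidHom.map_closure, Subgroup.closure_le]
      rintro _ ⟨_, ⟨g, hg, rfl⟩, rfl⟩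
      apply Subgroup.subset_closure
      refine ⟨σ g, hHσ g hg, ?_⟩
      show σ (τ g * g⁻¹) = _
      rw [map_mul, map_inv, hcomm]
    apply Subgroup.eq_of_le_of_card_ge hle
    rw [Subgroup.card_map_of_injective σ.injective]
  have key : ∀ g : A0, (c.comp A0.subtype) g = 1 := by
    refine D_abs (A := A) (Q := A0) hq hr hqr hr2 hexp (hQ.to_subgroup A0) n (restr σ A0 hA0σ)
      ?_ ?_ (c.comp A0.subtype) X hX ?_ hXf
    · ext x
      rw [K_restr_pow, hσ]
      rfl
    · intro g hg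
      have h1 : τ (g : Q) = g := by
        have := congrArg (fun x : A0 => (x : Q)) hg
        simp only [K_restr_pow] at this
        exact this
      rw [hinv _ g.2] at h1
      have h2 : (g : Q) ^ 2 = 1 := by
        rw [pow_two]
        nth_rewrite 1 [← h1]
        exact inv_mul_cancel _
      obtain ⟨k, hk⟩ := hQ (g : Q)
      have h3 : orderOf (g : Q) ∣ Nat.gcd 2 (q ^ k) :=
        Nat.dvd_gcd (orderOf_dvd_of_pow_eq_one h2) (orderOf_dvd_of_pow_eq_one hk)
      have h4 : Nat.gcd 2 (q ^ k) = 1 :=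
        Nat.Coprime.pow_right k ((Nat.coprime_primes Nat.prime_two hq).2 (Ne.symm hq2))
      rw [h4, Nat.dvd_one, orderOf_eq_one_iff] at h3
      exact Subtype.ext h3
    · intro g
      exact tw (g : Q)
  intro g hg
  have h1 : τ g * g⁻¹ ∈ A0 := Subgroup.subset_closure ⟨g, hg, rfl⟩
  have h2 : c (τ g * g⁻¹) = 1 := key ⟨_, h1⟩
  have h3 : τ g * g⁻¹ = 1 := hc (by rw [h2, map_one])
  exact mul_inv_eq_one.1 h3

end Cfsg.Agent.Lib.Helper85.Gross
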