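import Mathlib
import Cfsg.Agent.Lib.Helper46.Shult.T
import Cfsg.Agent.Lib.Helper85.Gross.GEN

set_option autoImplicit false
set_option linter.unusedSectionVars false
set_option linter.unusedVariables false

namespace Cfsg.Agent.Lib.Helper85.Gross

open scoped commutatorElement
open Cfsg.Agent.Lib.Helper1.FPF Cfsg.Agent.Lib.Helper46.Shult

universe u

theorem coreT2_aux {E : Type*} [Field E] {U : Type*} [AddCommGroup U] [Module E U]
    [IsAlgClosed E] [FiniteDimensional E U]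
    {q : ℕ} (hq : q.Prime) (hq2 : q ≠ 2)
    (n : ℕ) (x : Module.End E U) (hx : x ^ 2 ^ (n + 2) = 1)
    (h2E : (2 : E) ≠ 0) (hqE : (q : E) ≠ 0) (hfix : ∀ v, x v = v → v = 0)
    (hno : ∀ v, (x ^ 2 ^ n) v = -v → v = 0) :
    ∀ (c : ℕ) (Q : Type u) [Group Q] [Finite Q], Nat.card Q = c → IsPGroup q Q →
      ∀ σ : MulAut Q, σ ^ 2 ^ (n + 2) = 1 → (∀ g, σ g = g → g = 1) →
      ∀ ρ : Q →* Module.End E U, (∀ g, x * ρ g = ρ (σ g) * x) →
      ∀ g, ρ ((σ ^ 2 ^ (n + 1)) g) = ρ g := by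
  intro c
  induction c using Nat.strong_induction_on with
  | _ c ih =>
  intro Q _ _ hc hQ σ hσ hfpf ρ tw
  have hp : (2 : ℕ).Prime := Nat.prime_two
  have hpq : (2 : ℕ) ≠ q := fun h => hq2 h.symm
  have hqF : Fact q.Prime := ⟨hq⟩
  obtain ⟨cQ, hcQ⟩ := IsPGroup.iff_card.1 hQ
  have hcardE : (Nat.card Q : E) ≠ 0 := by
    rw [hcQ, Nat.cast_pow]; exact pow_ne_zero _ hqE
  by_cases hK : ρ.ker = ⊥
  · have hρ : Function.Injective ρ := (MonoidHom.ker_eq_bot_iff ρ).1 hK
    have hmin : ∀ H : Subgroup Q, H ≠ ⊤ → (∀ g ∈ H, σ g ∈ H) →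
        ∀ g ∈ H, (σ ^ 2 ^ (n + 1)) g = g := by
      intro H hH hinv g hg
      have hmap := map_eq_of_invariant σ H hinv
      let σH : MulAut H := restr σ H hmap
      have hlt : Nat.card H < c := by
        rw [← hc]
        by_contra hcon
        push Not at hcon
        exact hH (Subgroup.eq_top_of_card_eq H (le_antisymm (Subgroup.card_le_card_group H) hcon))
      have h1 := ih (Nat.card H) hlt H rfl (hQ.to_subgroup H) σH
        (by
          ext y
          rw [restr_pow, hσ]; rfl)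
        (by
          intro y hy
          apply Subtype.ext
          apply hfpf
          exact congrArg Subtype.val hy)
        (ρ.comp H.subtype)
        (by
          intro y
          exact tw y)
        ⟨g, hg⟩
      apply hρ
      have h2 : (((σH ^ 2 ^ (n + 1)) ⟨g, hg⟩ : H) : Q) = (σ ^ 2 ^ (n + 1)) g :=
        restr_pow σ H hmap _ _
      rw [← h2]
      exact h1
    by_cases hτ1 : σ ^ 2 ^ (n + 1) = 1
    · intro g
      rw [hτ1]; rfl
    obtain ⟨cl2, hτfix, hgen, hnonab, hab⟩ := structure_min hq hQ hp hpq σ (σ ^ 2 ^ (n + 1))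
      ((Commute.refl σ).pow_right _).eq
      (by rw [← pow_mul, ← pow_succ, hσ]) hτ1 hmin
    by_cases hZ : Subgroup.center Q = ⊤
    · have h1 := trivial_of_fpf_powers ρ x σ (2 ^ (n + 1 + 1)) (pow_pos hp.pos _) hx tw
        (fun k hk0 hk g hg => hab hZ g (fix_tau_of_fix_pow hp hσ hk0 hk hg)) hcardE hfix
      intro g
      rw [h1, h1]
    · exfalso
      have hna : ∃ g h : Q, ρ ⁅g, h⁆ ≠ 1 := by
        by_contra hcon
        push Not at hcon
        apply hZ
        rw [eq_top_iff]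
        intro g _
        rw [Subgroup.mem_center_iff]
        intro h
        have h1 : ⁅h, g⁆ = 1 := hρ (by rw [hcon h g, map_one])
        rw [commutatorElement_eq_one_iff_mul_comm] at h1
        exact h1
      obtain ⟨-, j, hj, v, hv0, hv⟩ := gen hq hq2 hQ ρ x σ (n + 1) hσ hx tw hfix h2E hqE cl2
        (hnonab hZ).2 hgen hna
      have hjn : j = n := by omega
      subst hjn
      exact hv0 (hno v hv)
  · -- pass to the quotient by the kernel
    have hxinv : x * x ^ (2 ^ (n + 2) - 1) = 1 := by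
      rw [← pow_succ', Nat.sub_add_cancel (Nat.one_le_iff_ne_zero.2 (pow_pos hp.pos _).ne'), hx]
    have hinv : ∀ g ∈ ρ.ker, σ g ∈ ρ.ker := by
      intro g hg
      rw [MonoidHom.mem_ker] at hg ⊢
      have h1 := tw g
      rw [hg, mul_one] at h1
      have h2 := congrArg (fun f => f * x ^ (2 ^ (n + 2) - 1)) h1
      simp only [mul_assoc, hxinv, mul_one] at h2
      exact h2.symm
    have hmap := map_eq_of_invariant σ ρ.ker hinv
    let σK : MulAut (Q ⧸ ρ.ker) := quot σ ρ.ker hmap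
    have hlt : Nat.card (Q ⧸ ρ.ker) < c := by
      rw [← hc, Subgroup.card_eq_card_quotient_mul_card_subgroup ρ.ker]
      have h1 : 1 < Nat.card ρ.ker := by
        rw [Finite.one_lt_card_iff_nontrivial]
        exact (Subgroup.nontrivial_iff_ne_bot _).2 hK
      have h2 : 0 < Nat.card (Q ⧸ ρ.ker) := Nat.card_pos
      nlinarith
    have hfpf' : MonoidHom.FixedPointFree (σ : Q ≃* Q) := fun g hg => hfpf g hg
    have hfpfK0 : MonoidHom.FixedPointFree (quot σ ρ.ker hmap) := quot_fpf hfpf' ρ.ker hmap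
    have hfpfK : ∀ y : Q ⧸ ρ.ker, σK y = y → y = 1 := fun y hy => hfpfK0 y hy
    have h1 := ih (Nat.card (Q ⧸ ρ.ker)) hlt (Q ⧸ ρ.ker) rfl (hQ.to_quotient ρ.ker) σK
      (by
        ext y
        obtain ⟨y, rfl⟩ := QuotientGroup.mk_surjective y
        rw [quot_pow, hσ]; rfl)
      hfpfK
      (QuotientGroup.lift ρ.ker ρ le_rfl)
      (by
        intro y
        obtain ⟨y, rfl⟩ := QuotientGroup.mk_surjective y
        exact tw y)
    intro g
    have h2 := h1 (g : Q ⧸ ρ.ker)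
    rw [quot_pow] at h2
    exact h2

variable {E : Type*} [Field E] {U : Type*} [AddCommGroup U] [Module E U]
  {Q : Type*} [Group Q] [Finite Q]

/-- [T2] -/
theorem coreT2 [IsAlgClosed E] [FiniteDimensional E U]
    {q : ℕ} (hq : q.Prime) (hq2 : q ≠ 2) (hQ : IsPGroup q Q)
    (n : ℕ) (σ : MulAut Q) (hσ : σ ^ 2 ^ (n + 2) = 1) (hfpf : ∀ g, σ g = g → g = 1)
    (ρ : Q →* Module.End E U) (x : Module.End E U) (hx : x ^ 2 ^ (n + 2) = 1)
    (tw : ∀ g, x * ρ g = ρ (σ g) * x)
    (h2E : (2 : E) ≠ 0) (hqE : (q : E) ≠ 0) (hfix : ∀ v, x v = v → v = 0)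
    (hno : ∀ v, (x ^ 2 ^ n) v = -v → v = 0) :
    ∀ g, ρ ((σ ^ 2 ^ (n + 1)) g) = ρ g :=
  coreT2_aux hq hq2 n x hx h2E hqE hfix hno (Nat.card Q) Q rfl hQ σ hσ hfpf ρ tw

end Cfsg.Agent.Lib.Helper85.Gross
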