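import Mathlib
import Cfsg.Agent.Lib.Helper46.Shult.Tg
import Cfsg.Agent.Lib.Helper85.Gross.T2

set_option autoImplicit false
set_option linter.unusedSectionVars false
set_option linter.unusedVariables false

namespace Cfsg.Agent.Lib.Helper85.Gross

open scoped commutatorElement

/-- [T2abs] -/
theorem T2_abs {A : Type*} [CommGroup A] [Finite A] {Q : Type*} [Group Q] [Finite Q]
    {q r : ℕ} (hq : q.Prime) (hr : r.Prime) (hqr : q ≠ r) (hq2 : q ≠ 2) (hr2 : r ≠ 2)
    (hexp : ∀ a : A, a ^ r = 1) (hQ : IsPGroup q Q)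
    (n : ℕ) (σ : MulAut Q) (hσ : σ ^ 2 ^ (n + 2) = 1) (hfpf : ∀ g, σ g = g → g = 1)
    (c : Q →* MulAut A) (X : MulAut A) (hX : X ^ 2 ^ (n + 2) = 1)
    (tw : ∀ g, X * c g = c (σ g) * X) (hXf : ∀ a, X a = a → a = 1)
    (hno : ∀ a, (X ^ 2 ^ n) a = a⁻¹ → a = 1) :
    ∀ g, c ((σ ^ 2 ^ (n + 1)) g) = c g := by
  have : Fact r.Prime := ⟨hr⟩
  let _ : Module (ZMod r) (Additive A) := AddCommGroup.zmodModule (n := r) (by
    intro a
    exact congrArg Additive.ofMul (hexp (Additive.toMul a)))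
  obtain ⟨d, Φ, h1, h2⟩ := Cfsg.Agent.Lib.Helper46.ESBridge.exists_rep_of_action (p := r)
    (Cfsg.Agent.Lib.Lead.mulAutToEnd A)
  have hne : ∀ m : ℕ, m.Prime → m ≠ r → ((m : ℕ) : AlgebraicClosure (ZMod r)) ≠ 0 := by
    intro m hm hmr h0
    have : CharP (AlgebraicClosure (ZMod r)) r := inferInstance
    rw [CharP.cast_eq_zero_iff (AlgebraicClosure (ZMod r)) r] at h0
    exact hmr ((Nat.prime_dvd_prime_iff_eq hr hm).mp h0).symm
  have h2E : (2 : AlgebraicClosure (ZMod r)) ≠ 0 := by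
    have := hne 2 Nat.prime_two (fun h => hr2 h.symm)
    simpa using this
  -- the inversion automorphism
  let ι : MulAut A := MulEquiv.inv A
  have hι : ∀ a, ι a = a⁻¹ := fun a => rfl
  have hsq : ∀ a : A, a ^ 2 = 1 → a = 1 := by
    intro a ha
    have h3 : orderOf a ∣ 2 := orderOf_dvd_of_pow_eq_one ha
    have h4 : orderOf a ∣ r := orderOf_dvd_of_pow_eq_one (hexp a)
    have h5 : Nat.Coprime 2 r := (Nat.coprime_primes Nat.prime_two hr).2 (fun h => hr2 h.symm)
    exact orderOf_eq_one_iff.1 (Nat.eq_one_of_dvd_coprimes h5 h3 h4)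
  have hιf : ∀ v, Φ ι v = v → v = 0 := by
    apply h2 ι
    intro a ha
    rw [Cfsg.Agent.Lib.Lead.mulAutToEnd_apply] at ha
    have h3 : ι (Additive.toMul a) = Additive.toMul a := congrArg Additive.toMul ha
    rw [hι] at h3
    have h4 : (Additive.toMul a) ^ 2 = 1 := by
      rw [pow_two]
      nth_rewrite 1 [← h3]
      exact inv_mul_cancel _
    exact congrArg Additive.ofMul (hsq _ h4)
  have hι2 : Φ ι * Φ ι = 1 := by
    rw [← map_mul]
    have : ι * ι = 1 := by
      ext a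
      simp [hι, MulAut.mul_apply]
    rw [this, map_one]
  have hιneg : ∀ v, Φ ι v = -v := by
    intro v
    have h3 : Φ ι (v + Φ ι v) = v + Φ ι v := by
      rw [map_add, ← Module.End.mul_apply, hι2, Module.End.one_apply, add_comm]
    have h4 := hιf _ h3
    exact (neg_eq_of_add_eq_zero_right h4).symm
  have hnoΦ : ∀ v, ((Φ X) ^ 2 ^ n) v = -v → v = 0 := by
    intro v hv
    have h3 : ∀ w, Φ (X ^ 2 ^ n * ι) w = w → w = 0 := by
      apply h2
      intro a ha
      rw [Cfsg.Agent.Lib.Lead.mulAutToEnd_apply] at ha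
      have h4 : (X ^ 2 ^ n * ι) (Additive.toMul a) = Additive.toMul a := congrArg Additive.toMul ha
      rw [MulAut.mul_apply, hι, map_inv] at h4
      have h5 : (X ^ 2 ^ n) (Additive.toMul a) = (Additive.toMul a)⁻¹ := inv_eq_iff_eq_inv.1 h4
      exact congrArg Additive.ofMul (hno _ h5)
    apply h3
    rw [map_mul, Module.End.mul_apply, hιneg, map_neg, map_pow, hv, neg_neg]
  have key := coreT2 (E := AlgebraicClosure (ZMod r)) (U := Fin d → AlgebraicClosure (ZMod r))
    hq hq2 hQ n σ hσ hfpf (Φ.comp c) (Φ X) (by rw [← map_pow, hX, map_one])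
    (by
      intro g
      rw [MonoidHom.comp_apply, MonoidHom.comp_apply, ← map_mul, ← map_mul, tw])
    h2E (hne q hq hqr)
    (by
      apply h2 X
      intro a ha
      rw [Cfsg.Agent.Lib.Lead.mulAutToEnd_apply] at ha
      have h3 : X (Additive.toMul a) = Additive.toMul a := congrArg Additive.toMul ha
      exact congrArg Additive.ofMul (hXf _ h3))
    hnoΦ
  intro g
  have h3 := key g
  rw [MonoidHom.comp_apply, MonoidHom.comp_apply] at h3
  have h4 : Φ (c ((σ ^ 2 ^ (n + 1)) g) * (c g)⁻¹) = 1 := by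
    rw [map_mul, h3, ← map_mul, mul_inv_cancel, map_one]
  have h5 := h1 _ h4
  have h6 : c ((σ ^ 2 ^ (n + 1)) g) * (c g)⁻¹ = 1 := by
    apply Cfsg.Agent.Lib.Lead.mulAutToEnd_injective A
    rw [h5, map_one]
  exact mul_inv_eq_one.mp h6

end Cfsg.Agent.Lib.Helper85.Gross
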