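import Mathlib
import Cfsg.Agent.Lib.Helper85.Gross.T2abs
import Cfsg.Agent.Lib.Helper85.Gross.M1

set_option autoImplicit false
set_option linter.unusedSectionVars false
set_option linter.unusedVariables false

namespace Cfsg.Agent.Lib.Helper85.Gross

open scoped commutatorElement

/-- the automorphism induced on the central quotient -/
noncomputable def M3_quot {Q : Type*} [Group Q] (α : MulAut Q) : MulAut (Q ⧸ Subgroup.center Q) :=
  QuotientGroup.congr (Subgroup.center Q) (Subgroup.center Q) α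
    (Subgroup.characteristic_iff_map_eq.1 inferInstance α)

theorem M3_quot_mk {Q : Type*} [Group Q] (α : MulAut Q) (g : Q) :
    M3_quot α (g : Q ⧸ Subgroup.center Q) = ((α g : Q) : Q ⧸ Subgroup.center Q) := rfl

theorem M3_quot_pow {Q : Type*} [Group Q] (α : MulAut Q) (m : ℕ) (g : Q) :
    (M3_quot α ^ m) (g : Q ⧸ Subgroup.center Q) = (((α ^ m) g : Q) : Q ⧸ Subgroup.center Q) := by
  induction m with
  | zero => rfl
  | succ m ih => rw [pow_succ', MulAut.mul_apply, ih, M3_quot_mk, pow_succ', MulAut.mul_apply]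

/-- the induced action on the central quotient -/
noncomputable def M3_c {Q S : Type*} [Group Q] [Group S] (φ : S →* MulAut Q) :
    S →* MulAut (Q ⧸ Subgroup.center Q) where
  toFun a := M3_quot (φ a)
  map_one' := by
    ext x
    obtain ⟨x, rfl⟩ := QuotientGroup.mk_surjective x
    rw [M3_quot_mk, map_one]; rfl
  map_mul' a b := by
    ext x
    obtain ⟨x, rfl⟩ := QuotientGroup.mk_surjective x
    rw [M3_quot_mk, map_mul, MulAut.mul_apply, MulAut.mul_apply, M3_quot_mk, M3_quot_mk]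

theorem M3_c_mk {Q S : Type*} [Group Q] [Group S] (φ : S →* MulAut Q) (a : S) (g : Q) :
    M3_c φ a (g : Q ⧸ Subgroup.center Q) = ((φ a g : Q) : Q ⧸ Subgroup.center Q) := rfl

/-- `T2_abs` for a group with a commutativity hypothesis -/
theorem M3_T2 {A : Type*} [Group A] (hcomm : ∀ a b : A, a * b = b * a) [Finite A]
    {Q : Type*} [Group Q] [Finite Q]
    {q r : ℕ} (hq : q.Prime) (hr : r.Prime) (hqr : q ≠ r) (hq2 : q ≠ 2) (hr2 : r ≠ 2)
    (hexp : ∀ a : A, a ^ r = 1) (hQ : IsPGroup q Q)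
    (n : ℕ) (σ : MulAut Q) (hσ : σ ^ 2 ^ (n + 2) = 1) (hfpf : ∀ g, σ g = g → g = 1)
    (c : Q →* MulAut A) (X : MulAut A) (hX : X ^ 2 ^ (n + 2) = 1)
    (tw : ∀ g, X * c g = c (σ g) * X) (hXf : ∀ a, X a = a → a = 1)
    (hno : ∀ a, (X ^ 2 ^ n) a = a⁻¹ → a = 1) :
    ∀ g, c ((σ ^ 2 ^ (n + 1)) g) = c g :=
  @T2_abs A { (inferInstance : Group A) with mul_comm := hcomm } _ Q _ _ q r hq hr hqr hq2 hr2
    hexp hQ n σ hσ hfpf c X hX tw hXf hno

/-- [M3] -/
theorem M3 {Q S : Type*} [Group Q] [Finite Q] [Group S] [Finite S] {q s : ℕ}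
    (hq : q.Prime) (hs : s.Prime) (hqs : q ≠ s) (hq2 : q ≠ 2) (hs2 : s ≠ 2)
    (hQ : IsPGroup q Q) (hS : IsPGroup s S) (n : ℕ)
    (σ : MulAut Q) (hσ : σ ^ 2 ^ (n + 2) = 1) (hfpf : ∀ g, σ g = g → g = 1)
    (σS : MulAut S) (hσS : σS ^ 2 ^ (n + 2) = 1) (hfS : ∀ a, σS a = a → a = 1)
    (φ : S →* MulAut Q) (hφ : ∀ a, φ (σS a) = σ * φ a * σ⁻¹)
    (cl2 : ∀ g h : Q, ⁅g, h⁆ ∈ Subgroup.center Q) (hexpQ : ∀ g : Q, g ^ q ∈ Subgroup.center Q)
    (hBZ : ∀ a, ∀ z ∈ Subgroup.center Q, φ ((σS ^ 2 ^ (n + 1)) a * a⁻¹) z = z)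
    (hne : ∃ a, φ ((σS ^ 2 ^ (n + 1)) a) ≠ φ a) :
    ∃ g₀, g₀ ∉ Subgroup.center Q ∧ (σ ^ 2 ^ n) g₀ * g₀ ∈ Subgroup.center Q := by
  classical
  by_contra hcon
  push Not at hcon
  have hcomm : ∀ a b : Q ⧸ Subgroup.center Q, a * b = b * a := by
    intro a b
    obtain ⟨g, rfl⟩ := QuotientGroup.mk_surjective a
    obtain ⟨h, rfl⟩ := QuotientGroup.mk_surjective b
    rw [← QuotientGroup.mk_mul, ← QuotientGroup.mk_mul, QuotientGroup.eq]
    have := cl2 h⁻¹ g⁻¹
    rw [commutatorElement_def] at this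
    convert this using 1
    group
  have hexp : ∀ a : Q ⧸ Subgroup.center Q, a ^ q = 1 := by
    intro a
    obtain ⟨g, rfl⟩ := QuotientGroup.mk_surjective a
    rw [← QuotientGroup.mk_pow, QuotientGroup.eq_one_iff]
    exact hexpQ g
  have hXf : ∀ a, M3_quot σ a = a → a = 1 :=
    Cfsg.Agent.Lib.Helper1.FPF.quot_fpf (φ := σ) hfpf (Subgroup.center Q)
      (Subgroup.characteristic_iff_map_eq.1 inferInstance σ)
  have key := M3_T2 hcomm hs hq hqs.symm hs2 hq2 hexp hS n σS hσS hfS (M3_c φ) (M3_quot σ)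
    (by
      ext x
      obtain ⟨x, rfl⟩ := QuotientGroup.mk_surjective x
      rw [M3_quot_pow, hσ]; rfl)
    (by
      intro a
      ext x
      obtain ⟨x, rfl⟩ := QuotientGroup.mk_surjective x
      rw [MulAut.mul_apply, MulAut.mul_apply, M3_c_mk, M3_quot_mk, M3_quot_mk, M3_c_mk, hφ]
      simp)
    hXf
    (by
      intro x hx
      obtain ⟨x, rfl⟩ := QuotientGroup.mk_surjective x
      rw [M3_quot_pow] at hx
      rw [QuotientGroup.eq_one_iff]
      by_contra hxZ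
      apply hcon x hxZ
      rw [← QuotientGroup.eq_one_iff, QuotientGroup.mk_mul, hx, inv_mul_cancel])
  obtain ⟨a, ha⟩ := hne
  apply ha
  set τS := σS ^ 2 ^ (n + 1) with hτS
  have hb : φ (τS a * a⁻¹) = 1 := by
    ext g
    set d := φ (τS a * a⁻¹) g * g⁻¹ with hd
    have hdZ : d ∈ Subgroup.center Q := by
      have h1 := DFunLike.congr_fun (key a) ((φ a⁻¹ g : Q) : Q ⧸ Subgroup.center Q)
      rw [M3_c_mk, M3_c_mk, ← MulAut.mul_apply, ← MulAut.mul_apply, ← map_mul, ← map_mul,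
        mul_inv_cancel, map_one, MulAut.one_apply] at h1
      rw [← QuotientGroup.eq_one_iff, hd, QuotientGroup.mk_mul, h1, QuotientGroup.mk_inv,
        mul_inv_cancel]
    have h1 : φ (τS a * a⁻¹) g = d * g := by rw [hd]; group
    have h2 : φ (τS a * a⁻¹) d = d := hBZ a d hdZ
    obtain ⟨k, hk⟩ := hS (τS a * a⁻¹)
    obtain ⟨j, hj⟩ := hQ d
    have h3 := M1_pow_apply _ g d h1 h2 (s ^ k)
    rw [← map_pow, hk, map_one, MulAut.one_apply] at h3
    have h4 : d ^ s ^ k = 1 := by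
      have : d ^ s ^ k * g = 1 * g := by rw [← h3, one_mul]
      exact mul_right_cancel this
    have h5 : d = 1 := M1_eq_one hq hs hqs d j k hj h4
    rw [h1, h5, one_mul, MulAut.one_apply]
  rw [map_mul, map_inv, mul_inv_eq_one] at hb
  exact hb

end Cfsg.Agent.Lib.Helper85.Gross
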