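import Mathlib
import Cfsg.Agent.Lib.Helper46.Shult.K

set_option autoImplicit false
set_option linter.unusedSectionVars false
set_option linter.unusedVariables false

namespace Cfsg.Agent.Lib.Helper85.Gross

open scoped commutatorElement

/-- the subgroup `T` of [M4] -/
def M4_T {Q S : Type*} [Group Q] [Group S] (φ : S →* MulAut Q) (R : Subgroup Q) : Subgroup S where
  carrier := {b | (∀ z ∈ Subgroup.center Q, φ b z = z) ∧ ∀ g, φ b g * g⁻¹ ∈ R}
  one_mem' := by
    refine ⟨fun z _ => by simp, fun g => by simp [R.one_mem]⟩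
  mul_mem' := by
    rintro b c ⟨hb1, hb2⟩ ⟨hc1, hc2⟩
    refine ⟨fun z hz => by rw [map_mul, MulAut.mul_apply, hc1 z hz, hb1 z hz], fun g => ?_⟩
    have : φ (b * c) g * g⁻¹ = (φ b (φ c g) * (φ c g)⁻¹) * (φ c g * g⁻¹) := by
      rw [map_mul, MulAut.mul_apply]; group
    rw [this]
    exact R.mul_mem (hb2 _) (hc2 _)
  inv_mem' := by
    rintro b ⟨hb1, hb2⟩
    refine ⟨fun z hz => ?_, fun g => ?_⟩
    · have : φ b⁻¹ (φ b z) = z := by rw [← MulAut.mul_apply, ← map_mul]; simp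
      rwa [hb1 z hz] at this
    · set g' := φ b⁻¹ g with hg'
      have : φ b g' = g := by rw [hg', ← MulAut.mul_apply, ← map_mul]; simp
      have h2 : g' * g⁻¹ = (φ b g' * g'⁻¹)⁻¹ := by rw [this]; group
      rw [h2]
      exact R.inv_mem (hb2 _)

/-- [M4] -/
theorem M4 {Q S : Type*} [Group Q] [Finite Q] [Group S] [Finite S]
    (τ : MulAut Q) (τS : MulAut S) (hτS2 : τS ^ 2 = 1) (hScop : (Nat.card S).Coprime 2)
    (φ : S →* MulAut Q) (hφτ : ∀ a, φ (τS a) = τ * φ a * τ⁻¹)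
    (hD : Subgroup.closure {y : Q | ∃ a g, y = φ (τS a * a⁻¹) g * g⁻¹} = ⊤)
    (hBZ : ∀ a, ∀ z ∈ Subgroup.center Q, φ (τS a * a⁻¹) z = z)
    (R : Subgroup Q) (hRτ : ∀ h, τ h * h⁻¹ ∈ R)
    (hRinv : ∀ α : MulAut Q, (∀ z ∈ Subgroup.center Q, α z = z) → ∀ g ∈ R, α g ∈ R) :
    R = ⊤ := by
  classical
  set B : Subgroup S := Subgroup.closure {y : S | ∃ g, y = τS g * g⁻¹} with hB
  have hBfix : ∀ b ∈ B, ∀ z ∈ Subgroup.center Q, φ b z = z := by
    intro b hb
    induction hb using Subgroup.closure_induction with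
    | mem x hx => obtain ⟨a, rfl⟩ := hx; exact hBZ a
    | one => intro z _; simp
    | mul x y _ _ hx hy =>
      intro z hz
      rw [map_mul, MulAut.mul_apply, hy z hz, hx z hz]
    | inv x _ hx =>
      intro z hz
      have : φ x⁻¹ (φ x z) = z := by rw [← MulAut.mul_apply, ← map_mul]; simp
      rwa [hx z hz] at this
  have hK := Cfsg.Agent.Lib.Helper46.Shult.K_comm_comm τS hτS2 hScop B hB
  have hBT : B ≤ M4_T φ R := by
    refine hK.trans ?_
    rw [Subgroup.closure_le]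
    rintro _ ⟨b, hb, rfl⟩
    refine ⟨hBZ b, fun g => ?_⟩
    set w := φ b⁻¹ g with hw
    have hg : φ b w = g := by rw [hw, ← MulAut.mul_apply, ← map_mul]; simp
    set w' := τ⁻¹ w with hw'
    have hww : τ w' = w := by rw [hw']; simp
    have e1 : φ (τS b * b⁻¹) g = τ (φ b w') := by
      rw [map_mul, MulAut.mul_apply, ← hw, hφτ]
      simp [hw']
    have e2 : φ (τS b * b⁻¹) g * g⁻¹ =
        (τ (φ b w') * (φ b w')⁻¹) * (φ b (τ w' * w'⁻¹))⁻¹ := by
      rw [e1, map_mul, map_inv, hww, hg]; group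
    rw [e2]
    exact R.mul_mem (hRτ _) (R.inv_mem (hRinv _ (hBfix b hb) _ (hRτ _)))
  rw [eq_top_iff, ← hD, Subgroup.closure_le]
  rintro _ ⟨a, g, rfl⟩
  exact (hBT (Subgroup.subset_closure ⟨a, rfl⟩)).2 g

end Cfsg.Agent.Lib.Helper85.Gross
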