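import Mathlib
import Cfsg.Agent.Lib.Helper46.Shult.K
import Cfsg.Agent.Lib.Helper85.Gross.W2
import Cfsg.Agent.Lib.Helper85.Gross.NT
import Cfsg.Agent.Lib.Helper85.Gross.INV

set_option autoImplicit false
set_option linter.unusedSectionVars false
set_option linter.unusedVariables false

namespace Cfsg.Agent.Lib.Helper85.Gross

open scoped commutatorElement
open Cfsg.Agent.Lib.Helper1 Cfsg.Agent.Lib.Helper1.FPF Cfsg.Agent.Lib.Helper46.Shult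

variable {E : Type*} [Field E] {U : Type*} [AddCommGroup U] [Module E U]
  {Q : Type*} [Group Q] [Finite Q]

/-- the conclusion of [XWa] under the hypotheses of [W2] -/
theorem XWa_core [IsAlgClosed E] [FiniteDimensional E U] [Nontrivial U]
    {q : ℕ} (hq : q.Prime) (hq2 : q ≠ 2) (hQ : IsPGroup q Q)
    (ρ : Q →* Module.End E U) (x : Module.End E U) (σ : MulAut Q) (k : ℕ)
    (hσ : σ ^ 2 ^ (k + 1) = 1) (hx : x ^ 2 ^ (k + 1) = 1)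
    (tw : ∀ g, x * ρ g = ρ (σ g) * x) (hfix : ∀ v, x v = v → v = 0)
    (h2E : (2 : E) ≠ 0) (hqE : (q : E) ≠ 0)
    (cl2 : ∀ g h : Q, ⁅g, h⁆ ∈ Subgroup.center Q)
    (hτfpf : ∀ g, (σ ^ 2 ^ k) g * g⁻¹ ∈ Subgroup.center Q → g ∈ Subgroup.center Q)
    (hgen : Subgroup.closure {y : Q | ∃ g, y = (σ ^ 2 ^ k) g * g⁻¹} = ⊤)
    (μ : Q → E) (hwt : ∀ z ∈ Subgroup.center Q, ∀ v, ρ z v = μ z • v)
    (hμ : ∃ z ∈ Subgroup.center Q, μ z ≠ 1) :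
    q + 1 = 2 ^ (k + 1) ∧ ∃ j, k = j + 1 ∧ ∃ v, v ≠ 0 ∧ (x ^ 2) v = v := by
  haveI : Fact q.Prime := ⟨hq⟩
  obtain ⟨R, hR, hidx, hRtop⟩ := index_rad2 hq hq2 hQ ρ x σ k hσ hx tw hfix h2E hqE cl2 hτfpf hgen
    μ hwt hμ
  have hk : k ≠ 0 := by
    rintro rfl
    apply hRtop
    rw [← Subgroup.index_eq_one, hidx]
    norm_num
  obtain ⟨j, rfl⟩ := Nat.exists_eq_succ_of_ne_zero hk
  obtain ⟨c, hc⟩ := hQ.index R
  have hq1 := nt_mersenne hq (hidx.symm.trans hc) (by omega)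
  refine ⟨hq1, j, rfl, ?_⟩
  by_contra hcon
  push Not at hcon
  have hfix' : ∀ v, (x ^ 2) v = v → v = 0 := fun v hv => by_contra (fun h => hcon v h hv)
  have e : ∀ m, (σ ^ 2) ^ (2 ^ m) = σ ^ (2 ^ (m + 1)) := by
    intro m; rw [← pow_mul, ← pow_succ']
  have tw' : ∀ g, x ^ 2 * ρ g = ρ ((σ ^ 2) g) * x ^ 2 := by
    intro g
    have h1 : (σ ^ 2) g = σ (σ g) := by rw [pow_two]; rfl
    rw [h1, pow_two, mul_assoc, tw g, ← mul_assoc, tw (σ g), mul_assoc]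
  obtain ⟨R', hR', hidx', _⟩ := index_rad2 hq hq2 hQ ρ (x ^ 2) (σ ^ 2) j
    (by rw [e]; exact hσ) (by rw [← pow_mul, ← pow_succ']; exact hx) tw' hfix' h2E hqE cl2
    (by rw [e]; exact hτfpf) (by rw [e]; exact hgen) μ hwt hμ
  have hRR : R' = R := by
    ext g; rw [hR, hR']
  rw [hRR, hidx] at hidx'
  have h1 : 2 ^ (j + 1) - 1 < 2 ^ (j + 1 + 1) - 1 := by
    have : 0 < 2 ^ (j + 1) := pow_pos (by norm_num) _
    rw [pow_succ 2 (j + 1)]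
    omega
  have h2 : (2 ^ (j + 1) - 1) ^ 2 < (2 ^ (j + 1 + 1) - 1) ^ 2 := Nat.pow_lt_pow_left h1 (by norm_num)
  exact absurd hidx' h2.ne'

/-- [XWa] -/
theorem XWa [IsAlgClosed E] [FiniteDimensional E U] [Nontrivial U]
    {q : ℕ} (hq : q.Prime) (hq2 : q ≠ 2) (hQ : IsPGroup q Q)
    (ρ : Q →* Module.End E U) (x : Module.End E U) (σ : MulAut Q) (k : ℕ)
    (hσ : σ ^ 2 ^ (k + 1) = 1) (hx : x ^ 2 ^ (k + 1) = 1)
    (tw : ∀ g, x * ρ g = ρ (σ g) * x) (hfix : ∀ v, x v = v → v = 0)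
    (h2E : (2 : E) ≠ 0) (hqE : (q : E) ≠ 0)
    (cl2 : ∀ g h : Q, ⁅g, h⁆ ∈ Subgroup.center Q)
    (hτZ : ∀ z ∈ Subgroup.center Q, (σ ^ 2 ^ k) z = z)
    (μ : Q → E) (hwt : ∀ z ∈ Subgroup.center Q, ∀ v, ρ z v = μ z • v)
    (hnt : ∃ h₁ h₂ : Q, μ ⁅(σ ^ 2 ^ k) h₁ * h₁⁻¹, h₂⁆ ≠ 1) :
    q + 1 = 2 ^ (k + 1) ∧ ∃ j, k = j + 1 ∧ ∃ v, v ≠ 0 ∧ (x ^ 2) v = v := by
  haveI : Fact q.Prime := ⟨hq⟩
  set τ : MulAut Q := σ ^ 2 ^ k with hτ
  have hτ2 : τ ^ 2 = 1 := by rw [hτ, ← pow_mul, ← pow_succ]; exact hσ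
  have hqodd : Odd q := hq.odd_of_ne_two hq2
  obtain ⟨n, hn⟩ := IsPGroup.iff_card.mp hQ
  have hodd : Odd (Nat.card Q) := by rw [hn]; exact hqodd.pow
  obtain ⟨I1, I2, I3, _, I5, I6⟩ := inv_lemmas hodd τ hτ2 cl2 hτZ
  set M : Subgroup Q := Subgroup.closure {y : Q | ∃ g, y = τ g * g⁻¹} with hM
  have hcomm : ∀ g, σ (τ g) = τ (σ g) := by
    intro g
    have : σ * τ = τ * σ := by rw [hτ, ← pow_succ', ← pow_succ]
    exact congrArg (fun f : MulAut Q => f g) this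
  have hMσ : M.map (σ : Q →* Q) = M := by
    have hle : M.map (σ : Q →* Q) ≤ M := by
      rw [hM, MonoidHom.map_closure, Subgroup.closure_le]
      rintro _ ⟨_, ⟨g, rfl⟩, rfl⟩
      apply Subgroup.subset_closure
      refine ⟨σ g, ?_⟩
      show σ (τ g * g⁻¹) = _
      rw [map_mul, map_inv, hcomm]
    apply Subgroup.eq_of_le_of_card_ge hle
    rw [Subgroup.card_map_of_injective σ.injective]
  have hcop : (Nat.card Q).Coprime 2 := Nat.Coprime.symm (Nat.coprime_two_left.mpr hodd)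
  have hMM := K_comm_comm τ hτ2 hcop M hM
  set σM : MulAut M := restr σ M hMσ with hσM
  have hτM : ∀ g : M, (((σM ^ 2 ^ k) g : M) : Q) = τ g := fun g => K_restr_pow σ M hMσ _ g
  -- centre of M
  have hcen : ∀ z : M, z ∈ Subgroup.center M ↔ (z : Q) ∈ Subgroup.center Q := by
    intro z
    constructor
    · intro hz
      apply I3 z z.2
      intro m' hm'
      have := (Subgroup.mem_center_iff.mp hz) ⟨m', hm'⟩
      exact (congrArg Subtype.val this).symm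
    · intro hz
      rw [Subgroup.mem_center_iff]
      intro g
      exact Subtype.ext ((Subgroup.mem_center_iff.mp hz) g)
  apply XWa_core hq hq2 (hQ.to_subgroup M) (ρ.comp M.subtype) x σM k ?_ hx ?_ hfix h2E hqE ?_ ?_ ?_
    (fun m => μ m) ?_ ?_
  · ext g
    rw [K_restr_pow, hσ]
    rfl
  · intro g
    exact tw g
  · intro g h
    rw [hcen]
    exact cl2 g h
  · intro g hg
    rw [hcen] at hg ⊢
    rw [Subgroup.coe_mul, hτM, Subgroup.coe_inv] at hg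
    apply I6
    have h5 := I5 g g.2
    have : (g : Q) ^ 2 = (τ g * (g : Q)⁻¹)⁻¹ * (τ g * g) := by
      rw [pow_two]; group
    rw [this]
    exact Subgroup.mul_mem _ (Subgroup.inv_mem _ hg) h5
  · rw [eq_top_iff]
    rintro ⟨y, hy⟩ -
    have hy1 := hMM hy
    have hmap : Subgroup.closure {y : Q | ∃ d ∈ M, y = τ d * d⁻¹}
        ≤ (Subgroup.closure {y : M | ∃ g, y = (σM ^ 2 ^ k) g * g⁻¹}).map M.subtype := by
      rw [Subgroup.closure_le]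
      rintro _ ⟨d, hd, rfl⟩
      refine ⟨(σM ^ 2 ^ k) ⟨d, hd⟩ * (⟨d, hd⟩ : M)⁻¹, Subgroup.subset_closure ⟨⟨d, hd⟩, rfl⟩, ?_⟩
      show (((σM ^ 2 ^ k) ⟨d, hd⟩ * (⟨d, hd⟩ : M)⁻¹ : M) : Q) = _
      rw [Subgroup.coe_mul, hτM]
      rfl
    obtain ⟨z, hz, hzy⟩ := hmap hy1
    have : z = ⟨y, hy⟩ := Subtype.ext hzy
    rw [← this]
    exact hz
  · intro z hz v
    exact hwt z ((hcen z).mp hz) v
  · obtain ⟨h₁, h₂, hne⟩ := hnt
    obtain ⟨c, b, hc, hb, rfl⟩ := I2 h₂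
    have haM : τ h₁ * h₁⁻¹ ∈ M := Subgroup.subset_closure ⟨h₁, rfl⟩
    set a := τ h₁ * h₁⁻¹ with ha
    have hca : c * a = a * c := I1 c hc a haM
    have hab : ⁅a, c * b⁆ = ⁅a, b⁆ := by
      have hz := Subgroup.mem_center_iff.mp (cl2 a b) c
      -- c * [a,b] = [a,b] * c
      have e1 : ⁅a, c * b⁆ = (a * c) * (b * a⁻¹ * b⁻¹) * c⁻¹ := by
        rw [commutatorElement_def]; group
      have e2 : (c * a) * (b * a⁻¹ * b⁻¹) * c⁻¹ = (c * ⁅a, b⁆) * c⁻¹ := by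
        rw [commutatorElement_def]; group
      rw [e1, ← hca, e2, hz]; group
    refine ⟨⁅(⟨a, haM⟩ : M), ⟨b, hb⟩⁆, ?_, ?_⟩
    · rw [hcen]; exact cl2 a b
    · show μ ((⁅(⟨a, haM⟩ : M), ⟨b, hb⟩⁆ : M) : Q) ≠ 1
      have : ((⁅(⟨a, haM⟩ : M), ⟨b, hb⟩⁆ : M) : Q) = ⁅a, b⁆ := rfl
      rw [this, ← hab]
      exact hne

end Cfsg.Agent.Lib.Helper85.Gross
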