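import Mathlib
import Cfsg.Agent.Lib.Helper46.Shult.K
import Cfsg.Agent.Lib.Helper85.Gross.GEN

set_option autoImplicit false
set_option linter.unusedSectionVars false
set_option linter.unusedVariables false

namespace Cfsg.Agent.Lib.Helper85.Gross

open scoped commutatorElement
open Cfsg.Agent.Lib.Helper1 Cfsg.Agent.Lib.Helper1.FPF Cfsg.Agent.Lib.Helper46.Shult

variable {E : Type*} [Field E] {U : Type*} [AddCommGroup U] [Module E U]
  {Q : Type*} [Group Q] [Finite Q]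

/-! ### class two commutator calculus -/

theorem XWb_comm_mul_right (cl2 : ∀ g h : Q, ⁅g, h⁆ ∈ Subgroup.center Q) (a b c : Q) :
    ⁅a, b * c⁆ = ⁅a, b⁆ * ⁅a, c⁆ := by
  have hz := Subgroup.mem_center_iff.mp (cl2 a c) b⁻¹
  calc ⁅a, b * c⁆ = a * b * a⁻¹ * (⁅a, c⁆ * b⁻¹) := by
        simp only [commutatorElement_def]; group
    _ = a * b * a⁻¹ * (b⁻¹ * ⁅a, c⁆) := by rw [hz]
    _ = ⁅a, b⁆ * ⁅a, c⁆ := by simp only [commutatorElement_def]; group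

theorem XWb_comm_mul_left (cl2 : ∀ g h : Q, ⁅g, h⁆ ∈ Subgroup.center Q) (a b c : Q) :
    ⁅a * b, c⁆ = ⁅a, c⁆ * ⁅b, c⁆ := by
  have hz := Subgroup.mem_center_iff.mp (cl2 b c) a
  calc ⁅a * b, c⁆ = (a * ⁅b, c⁆) * c * a⁻¹ * c⁻¹ := by
        simp only [commutatorElement_def]; group
    _ = (⁅b, c⁆ * a) * c * a⁻¹ * c⁻¹ := by rw [hz]
    _ = ⁅b, c⁆ * ⁅a, c⁆ := by simp only [commutatorElement_def]; group
    _ = ⁅a, c⁆ * ⁅b, c⁆ := (Subgroup.mem_center_iff.mp (cl2 a c) _)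

theorem XWb_comm_center_left {z : Q} (hz : z ∈ Subgroup.center Q) (b : Q) : ⁅z, b⁆ = 1 := by
  rw [commutatorElement_eq_one_iff_mul_comm]
  exact ((Subgroup.mem_center_iff.mp hz) b).symm

theorem XWb_comm_center_right {z : Q} (hz : z ∈ Subgroup.center Q) (a : Q) : ⁅a, z⁆ = 1 := by
  rw [commutatorElement_eq_one_iff_mul_comm]
  exact (Subgroup.mem_center_iff.mp hz) a

/-! ### odd order -/

theorem XWb_mem_of_sq (hodd : Odd (Nat.card Q)) (H : Subgroup Q) {a : Q} (h : a * a ∈ H) :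
    a ∈ H := by
  have hcop : Nat.Coprime 2 (orderOf a) := by
    have h1 : orderOf a ∣ Nat.card Q := orderOf_dvd_natCard a
    have h2 : Odd (orderOf a) := Odd.of_dvd_nat hodd h1
    exact Nat.coprime_two_left.mpr h2
  obtain ⟨m, hm⟩ := exists_pow_eq_self_of_coprime hcop
  rw [← hm, pow_two]
  exact H.pow_mem h m

theorem XWb_eq_one_of_sq (hodd : Odd (Nat.card Q)) {a : Q} (h : a * a = 1) : a = 1 := by
  have : a ∈ (⊥ : Subgroup Q) := XWb_mem_of_sq hodd ⊥ (by rw [h]; exact Subgroup.one_mem _)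
  exact Subgroup.mem_bot.mp this

/-! ### the subgroup `Y` -/

/-- `Y = {y : α y * y ∈ Z}` -/
def XWbY (cl2 : ∀ g h : Q, ⁅g, h⁆ ∈ Subgroup.center Q) (α : MulAut Q) : Subgroup Q where
  carrier := {y | α y * y ∈ Subgroup.center Q}
  one_mem' := by
    show α 1 * 1 ∈ Subgroup.center Q
    rw [map_one, mul_one]; exact Subgroup.one_mem _
  mul_mem' := by
    intro a b ha hb
    show α (a * b) * (a * b) ∈ Subgroup.center Q
    have ha' : α a * a ∈ Subgroup.center Q := ha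
    have hb' : α b * b ∈ Subgroup.center Q := hb
    have hc := cl2 (α b) a
    have hz := Subgroup.mem_center_iff.mp hc (α a)
    have e : α (a * b) * (a * b) = ⁅α b, a⁆ * ((α a * a) * (α b * b)) := by
      calc α (a * b) * (a * b) = (α a * ⁅α b, a⁆) * a * α b * b := by
            rw [map_mul]; simp only [commutatorElement_def]; group
        _ = (⁅α b, a⁆ * α a) * a * α b * b := by rw [hz]
        _ = ⁅α b, a⁆ * ((α a * a) * (α b * b)) := by group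
    rw [e]
    exact Subgroup.mul_mem _ hc (Subgroup.mul_mem _ ha' hb')
  inv_mem' := by
    intro a ha
    show α a⁻¹ * a⁻¹ ∈ Subgroup.center Q
    have ha' : α a * a ∈ Subgroup.center Q := ha
    have hz := Subgroup.mem_center_iff.mp ha' a
    have e : α a⁻¹ * a⁻¹ = (α a * a)⁻¹ := by
      have h1 : a * α a = α a * a := by
        have : a * (α a * a) * a⁻¹ = a * α a := by group
        rw [← this, hz]; group
      rw [map_inv, ← mul_inv_rev, h1]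
    rw [e]
    exact Subgroup.inv_mem _ ha'

theorem mem_XWbY (cl2 : ∀ g h : Q, ⁅g, h⁆ ∈ Subgroup.center Q) (α : MulAut Q) (y : Q) :
    y ∈ XWbY cl2 α ↔ α y * y ∈ Subgroup.center Q := Iff.rfl

theorem XWbY_map (cl2 : ∀ g h : Q, ⁅g, h⁆ ∈ Subgroup.center Q) (α β : MulAut Q)
    (hc : ∀ g, β (α g) = α (β g)) {y : Q} (hy : y ∈ XWbY cl2 α) : β y ∈ XWbY cl2 α := by
  rw [mem_XWbY] at hy ⊢
  rw [← hc, ← map_mul]
  exact center_mem_of_aut β hy

/-- `α ^ 2` fixes `Y` pointwise if it fixes the centre and has order at most 2. -/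
theorem XWbY_fix (hodd : Odd (Nat.card Q)) (cl2 : ∀ g h : Q, ⁅g, h⁆ ∈ Subgroup.center Q)
    (α : MulAut Q) (hτZ : ∀ z ∈ Subgroup.center Q, α (α z) = z)
    (h4 : ∀ g, α (α (α (α g))) = g) {y : Q} (hy : y ∈ XWbY cl2 α) : α (α y) = y := by
  rw [mem_XWbY] at hy
  set z1 := α y * y with hz1
  have hαz1 : α z1 ∈ Subgroup.center Q := center_mem_of_aut α hy
  have hw : α z1 * z1⁻¹ ∈ Subgroup.center Q := Subgroup.mul_mem _ hαz1 (Subgroup.inv_mem _ hy)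
  have e1 : α y = z1 * y⁻¹ := by rw [hz1]; group
  have e2 : α (α y) = y * (α z1 * z1⁻¹) := by
    have h1 := Subgroup.mem_center_iff.mp hαz1 y
    calc α (α y) = α z1 * (α y)⁻¹ := by
          conv_lhs => rw [e1]
          rw [map_mul, map_inv]
      _ = α z1 * (z1 * y⁻¹)⁻¹ := by rw [← e1]
      _ = (α z1 * y) * z1⁻¹ := by group
      _ = (y * α z1) * z1⁻¹ := by rw [h1]
      _ = y * (α z1 * z1⁻¹) := by group
  have e3 : α (α (α (α y))) = y * (α z1 * z1⁻¹) * (α z1 * z1⁻¹) := by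
    rw [e2, map_mul, map_mul, e2, hτZ _ hw]
  rw [h4] at e3
  have e4 : (α z1 * z1⁻¹) * (α z1 * z1⁻¹) = 1 := by
    have : y * ((α z1 * z1⁻¹) * (α z1 * z1⁻¹)) = y * 1 := by
      rw [mul_one, ← mul_assoc]; exact e3.symm
    exact mul_left_cancel this
  rw [e2, XWb_eq_one_of_sq hodd e4, mul_one]

/-- the key computation: a nontrivial pairing inside `[Y, α]` -/
theorem XWb_pair (cl2 : ∀ g h : Q, ⁅g, h⁆ ∈ Subgroup.center Q) (α : MulAut Q)
    (h4 : ∀ g, α (α (α (α g))) = g) (μ : Q → E)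
    (hμmul : ∀ z ∈ Subgroup.center Q, ∀ w ∈ Subgroup.center Q, μ (z * w) = μ z * μ w)
    (hμone : μ 1 = 1) (hμα : ∀ z ∈ Subgroup.center Q, μ (α z) = μ z)
    (g₀ : Q) (hg₀ : g₀ ∈ XWbY cl2 α) (h₀ : Q) :
    ∃ h' ∈ XWbY cl2 α, μ ⁅α g₀ * g₀⁻¹, α h' * h'⁻¹⁆ = (μ ⁅g₀, h₀⁆) ^ 16 := by
  have hBr : ∀ a b c : Q, μ ⁅a, b * c⁆ = μ ⁅a, b⁆ * μ ⁅a, c⁆ := fun a b c => by
    rw [XWb_comm_mul_right cl2, hμmul _ (cl2 _ _) _ (cl2 _ _)]
  have hBl : ∀ a b c : Q, μ ⁅a * b, c⁆ = μ ⁅a, c⁆ * μ ⁅b, c⁆ := fun a b c => by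
    rw [XWb_comm_mul_left cl2, hμmul _ (cl2 _ _) _ (cl2 _ _)]
  have hBir : ∀ a b : Q, μ ⁅a, b⁻¹⁆ = (μ ⁅a, b⁆)⁻¹ := fun a b => by
    apply eq_inv_of_mul_eq_one_right
    rw [← hBr, mul_inv_cancel, commutatorElement_one_right, hμone]
  have hBil : ∀ a b : Q, μ ⁅a⁻¹, b⁆ = (μ ⁅a, b⁆)⁻¹ := fun a b => by
    apply eq_inv_of_mul_eq_one_right
    rw [← hBl, mul_inv_cancel, commutatorElement_one_left, hμone]
  have hBα : ∀ a b : Q, μ ⁅α a, α b⁆ = μ ⁅a, b⁆ := fun a b => by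
    rw [← map_commutatorElement', hμα _ (cl2 _ _)]
  have hYl : ∀ y ∈ XWbY cl2 α, ∀ w : Q, μ ⁅α y, w⁆ = (μ ⁅y, w⁆)⁻¹ := by
    intro y hy w
    rw [mem_XWbY] at hy
    have e1 : α y = (α y * y) * y⁻¹ := by group
    rw [e1, hBl, XWb_comm_center_left hy, hμone, one_mul, hBil]
  have hYr : ∀ y ∈ XWbY cl2 α, ∀ w : Q, μ ⁅w, α y⁆ = (μ ⁅w, y⁆)⁻¹ := by
    intro y hy w
    rw [mem_XWbY] at hy
    have e1 : α y = (α y * y) * y⁻¹ := by group
    rw [e1, hBr, XWb_comm_center_right hy, hμone, one_mul, hBir]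
  have hg : ∀ b, μ ⁅g₀, α b⁆ = (μ ⁅g₀, b⁆)⁻¹ := by
    intro b
    rw [← hBα g₀ b, hYl g₀ hg₀, inv_inv]
  set a := h₀ with ha
  set b := α a with hb
  set c := α b with hc
  set d := α c with hd
  have hda : α d = a := h4 a
  refine ⟨a * b⁻¹ * c * d⁻¹, ?_, ?_⟩
  · rw [mem_XWbY]
    have e : α (a * b⁻¹ * c * d⁻¹) * (a * b⁻¹ * c * d⁻¹) = ⁅b, c⁻¹ * d⁆ * ⁅c⁻¹, d⁆ := by
      rw [map_mul, map_mul, map_mul, map_inv, map_inv, hda, ← hb, ← hc, ← hd]
      simp only [commutatorElement_def]; group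
    rw [e]
    exact Subgroup.mul_mem _ (cl2 _ _) (cl2 _ _)
  · have hmem : a * b⁻¹ * c * d⁻¹ ∈ XWbY cl2 α := by
      rw [mem_XWbY]
      have e : α (a * b⁻¹ * c * d⁻¹) * (a * b⁻¹ * c * d⁻¹) = ⁅b, c⁻¹ * d⁆ * ⁅c⁻¹, d⁆ := by
        rw [map_mul, map_mul, map_mul, map_inv, map_inv, hda, ← hb, ← hc, ← hd]
        simp only [commutatorElement_def]; group
      rw [e]
      exact Subgroup.mul_mem _ (cl2 _ _) (cl2 _ _)
    have h1 : μ ⁅g₀, a * b⁻¹ * c * d⁻¹⁆ = (μ ⁅g₀, a⁆) ^ 4 := by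
      have hb' : μ ⁅g₀, b⁆ = (μ ⁅g₀, a⁆)⁻¹ := hg a
      have hc' : μ ⁅g₀, c⁆ = (μ ⁅g₀, b⁆)⁻¹ := hg b
      have hd' : μ ⁅g₀, d⁆ = (μ ⁅g₀, c⁆)⁻¹ := hg c
      rw [hBr, hBr, hBr, hBir, hBir, hd', hc', hb']
      simp only [inv_inv]
      ring
    rw [hBl, hBil, hYl g₀ hg₀, hBr, hBir, hYr _ hmem, h1]
    simp only [mul_inv, inv_inv]
    ring

/-- [XWb] -/
theorem XWb [IsAlgClosed E] [FiniteDimensional E U]
    {q : ℕ} (hq : q.Prime) (hq2 : q ≠ 2) (hQ : IsPGroup q Q)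
    (ρ : Q →* Module.End E U) (x : Module.End E U) (σ : MulAut Q) (j : ℕ)
    (hσ : σ ^ 2 ^ (j + 2) = 1) (hx : x ^ 2 ^ (j + 2) = 1)
    (tw : ∀ g, x * ρ g = ρ (σ g) * x) (hfix : ∀ v, x v = v → v = 0)
    (h2E : (2 : E) ≠ 0) (hqE : (q : E) ≠ 0)
    (cl2 : ∀ g h : Q, ⁅g, h⁆ ∈ Subgroup.center Q)
    (hτZ : ∀ z ∈ Subgroup.center Q, (σ ^ 2 ^ (j + 1)) z = z)
    (μ : Q → E) (hwt : ∀ z ∈ Subgroup.center Q, ∀ v, ρ z v = μ z • v)
    (hq1 : q + 1 = 2 ^ (j + 2)) (hv : ∃ v, v ≠ 0 ∧ (x ^ 2 ^ (j + 1)) v = v)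
    (g₀ : Q) (hg₀ : (σ ^ 2 ^ j) g₀ * g₀ ∈ Subgroup.center Q) : ∀ h, μ ⁅g₀, h⁆ = 1 := by
  intro h₀
  by_contra hne
  haveI : Fact q.Prime := ⟨hq⟩
  obtain ⟨v₀, hv₀, hxv₀⟩ := hv
  have hqodd : Odd q := hq.odd_of_ne_two hq2
  obtain ⟨n, hn⟩ := IsPGroup.iff_card.mp hQ
  have hodd : Odd (Nat.card Q) := by rw [hn]; exact hqodd.pow
  set α : MulAut Q := σ ^ 2 ^ j with hα
  have hαα : ∀ g, α (α g) = (σ ^ 2 ^ (j + 1)) g := by
    intro g
    rw [hα, ← MulAut.mul_apply, ← pow_add, pow_succ 2 j, mul_two]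
  have h4 : ∀ g, α (α (α (α g))) = g := by
    intro g
    rw [hαα, hαα, ← MulAut.mul_apply, ← pow_add, ← mul_two, ← pow_succ, hσ]; rfl
  have hτZ' : ∀ z ∈ Subgroup.center Q, α (α z) = z := fun z hz => by rw [hαα]; exact hτZ z hz
  -- the weight
  have hμmul : ∀ z ∈ Subgroup.center Q, ∀ w ∈ Subgroup.center Q, μ (z * w) = μ z * μ w := by
    intro z hz w hw
    have h1 := hwt (z * w) (Subgroup.mul_mem _ hz hw) v₀
    rw [map_mul, Module.End.mul_apply, hwt w hw, map_smul, hwt z hz, smul_smul] at h1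
    have h2 : (μ w * μ z - μ (z * w)) • v₀ = 0 := by rw [sub_smul, h1, sub_self]
    rcases smul_eq_zero.1 h2 with h | h
    · rw [mul_comm, ← sub_eq_zero.1 h]
    · exact absurd h hv₀
  have hμone : μ 1 = 1 := by
    have h1 := hwt 1 (Subgroup.one_mem _) v₀
    rw [map_one, Module.End.one_apply] at h1
    have h2 : (1 - μ 1) • v₀ = 0 := by rw [sub_smul, one_smul, ← h1, sub_self]
    rcases smul_eq_zero.1 h2 with h | h
    · exact (sub_eq_zero.1 h).symm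
    · exact absurd h hv₀
  have hxinj : ∀ v, x v = 0 → v = 0 := by
    intro v hv
    have h1 : (x ^ 2 ^ (j + 2)) v = v := by rw [hx]; rfl
    obtain ⟨m, hm⟩ : ∃ m, 2 ^ (j + 2) = m + 1 :=
      Nat.exists_eq_succ_of_ne_zero (pow_ne_zero _ (by norm_num))
    rw [hm, pow_succ, Module.End.mul_apply, hv, map_zero] at h1
    exact h1.symm
  have hμσ : ∀ z ∈ Subgroup.center Q, μ (σ z) = μ z := by
    intro z hz
    have h1 := congrArg (fun f : Module.End E U => f v₀) (tw z)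
    simp only [Module.End.mul_apply] at h1
    rw [hwt z hz, map_smul, hwt (σ z) (center_mem_of_aut σ hz)] at h1
    have h2 : (μ z - μ (σ z)) • x v₀ = 0 := by rw [sub_smul, h1, sub_self]
    rcases smul_eq_zero.1 h2 with h | h
    · exact (sub_eq_zero.1 h).symm
    · exact absurd (hxinj _ h) hv₀
  have hμpow : ∀ i : ℕ, ∀ z ∈ Subgroup.center Q, μ ((σ ^ i) z) = μ z := by
    intro i
    induction i with
    | zero => intro z _; rfl
    | succ i ih =>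
      intro z hz
      rw [pow_succ', MulAut.mul_apply, hμσ _ (center_mem_of_aut _ hz), ih z hz]
  have hμα : ∀ z ∈ Subgroup.center Q, μ (α z) = μ z := hμpow _
  have hμpw : ∀ m : ℕ, ∀ z ∈ Subgroup.center Q, μ (z ^ m) = (μ z) ^ m := by
    intro m
    induction m with
    | zero => intro z _; rw [pow_zero, pow_zero, hμone]
    | succ m ih =>
      intro z hz
      rw [pow_succ, pow_succ, hμmul _ (Subgroup.pow_mem _ hz m) _ hz, ih z hz]
  have hg₀Y : g₀ ∈ XWbY cl2 α := hg₀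
  obtain ⟨h', hh'Y, hpair⟩ := XWb_pair cl2 α h4 μ hμmul hμone hμα g₀ hg₀Y h₀
  have hβ16 : (μ ⁅g₀, h₀⁆) ^ 16 ≠ 1 := by
    obtain ⟨c, hc⟩ := hQ ⁅g₀, h₀⁆
    have h1 : (μ ⁅g₀, h₀⁆) ^ (q ^ c) = 1 := by rw [← hμpw _ _ (cl2 _ _), hc, hμone]
    intro h16
    have h2 := pow_gcd_eq_one.mpr ⟨h16, h1⟩
    have hg : Nat.gcd 16 (q ^ c) = 1 := by
      have h3 : Nat.Coprime 2 q := Nat.coprime_two_left.mpr hqodd
      have h4 : Nat.Coprime (2 ^ 4) (q ^ c) := Nat.Coprime.pow 4 c h3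
      exact h4
    rw [hg, pow_one] at h2
    exact hne h2
  -- the subgroups
  set Y := XWbY cl2 α with hY
  have hYfix : ∀ y ∈ Y, (σ ^ 2 ^ (j + 1)) y = y := fun y hy => by
    rw [← hαα]; exact XWbY_fix hodd cl2 α hτZ' h4 hy
  have hcommσ : ∀ g, σ (α g) = α (σ g) := fun g => WAux.pow_comm_apply σ _ g
  have hYσ : ∀ y ∈ Y, σ y ∈ Y := fun y hy => XWbY_map cl2 α σ hcommσ hy
  have hYα : ∀ y ∈ Y, α y ∈ Y := fun y hy => XWbY_map cl2 α α (fun _ => rfl) hy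
  set Y1 : Subgroup Q := Subgroup.closure {d | ∃ y ∈ Y, d = α y * y⁻¹} with hY1
  have hY1Y : Y1 ≤ Y := by
    rw [hY1, Subgroup.closure_le]
    rintro _ ⟨y, hy, rfl⟩
    exact Y.mul_mem (hYα y hy) (Y.inv_mem hy)
  have hY1σ' : ∀ g ∈ Y1, σ g ∈ Y1 := by
    intro g hg
    rw [hY1] at hg ⊢
    induction hg using Subgroup.closure_induction with
    | mem d hd =>
      obtain ⟨y, hy, rfl⟩ := hd
      apply Subgroup.subset_closure
      exact ⟨σ y, hYσ y hy, by rw [map_mul, map_inv, hcommσ]⟩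
    | one => rw [map_one]; exact Subgroup.one_mem _
    | mul a b _ _ ha hb => rw [map_mul]; exact Subgroup.mul_mem _ ha hb
    | inv a _ ha => rw [map_inv]; exact Subgroup.inv_mem _ ha
  have hY1σ : Y1.map (σ : Q →* Q) = Y1 := WAux.map_eq_of_inv σ Y1 hY1σ'
  set σ' : MulAut Y1 := restr σ Y1 hY1σ with hσ'
  have hσ'pow : ∀ (k : ℕ) (g : Y1), (((σ' ^ k) g : Y1) : Q) = (σ ^ k) g := K_restr_pow σ Y1 hY1σ
  -- the module
  let Up : Submodule E U :=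
    { carrier := {v | (x ^ 2 ^ (j + 1)) v = v}
      add_mem' := by
        intro a b ha hb
        show (x ^ 2 ^ (j + 1)) (a + b) = a + b
        rw [map_add, ha, hb]
      zero_mem' := by
        show (x ^ 2 ^ (j + 1)) 0 = 0
        rw [map_zero]
      smul_mem' := by
        intro c a ha
        show (x ^ 2 ^ (j + 1)) (c • a) = c • a
        rw [map_smul, ha] }
  have hUρ : ∀ g : Y1, ∀ v ∈ Up, ρ g v ∈ Up := by
    intro g v hv
    show (x ^ 2 ^ (j + 1)) (ρ g v) = ρ g v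
    have h1 := congrArg (fun f : Module.End E U => f v) (tw_pow tw (2 ^ (j + 1)) (g : Q))
    simp only [Module.End.mul_apply] at h1
    have hv' : (x ^ 2 ^ (j + 1)) v = v := hv
    rw [h1, hYfix g (hY1Y g.2), hv']
  have hUx : ∀ v ∈ Up, x v ∈ Up := by
    intro v hv
    show (x ^ 2 ^ (j + 1)) (x v) = x v
    have hv' : (x ^ 2 ^ (j + 1)) v = v := hv
    rw [← Module.End.mul_apply, ← pow_succ, pow_succ', Module.End.mul_apply, hv']
  let ρ' : Y1 →* Module.End E Up :=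
    { toFun := fun g => (ρ g).restrict (hUρ g)
      map_one' := by
        ext v; simp
      map_mul' := by
        intro g h
        ext v; simp }
  let x' : Module.End E Up := x.restrict hUx
  have hx' : x' ^ 2 ^ (j + 1) = 1 := by
    ext v
    have h1 : (x' ^ 2 ^ (j + 1)) v = ⟨(x ^ 2 ^ (j + 1)) v, by rw [v.2]; exact v.2⟩ := by
      have := Module.End.pow_restrict (f' := x) (2 ^ (j + 1)) hUx
      show ((x.restrict hUx) ^ 2 ^ (j + 1)) v = _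
      rw [this]; rfl
    rw [h1]
    exact v.2
  have hσ'1 : σ' ^ 2 ^ (j + 1) = 1 := by
    apply MulEquiv.ext
    intro g
    apply Subtype.ext
    rw [hσ'pow]
    exact hYfix _ (hY1Y g.2)
  have tw' : ∀ g, x' * ρ' g = ρ' (σ' g) * x' := by
    intro g
    ext v
    have := congrArg (fun f : Module.End E U => f v) (tw g)
    simp only [Module.End.mul_apply] at this
    exact this
  have hfix' : ∀ v, x' v = v → v = 0 := by
    intro v hv
    have h1 : x (v : U) = v := congrArg Subtype.val hv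
    exact Subtype.ext (hfix _ h1)
  have cl2' : ∀ g h : Y1, ⁅g, h⁆ ∈ Subgroup.center Y1 := by
    intro g h
    rw [Subgroup.mem_center_iff]
    intro m
    exact Subtype.ext ((Subgroup.mem_center_iff.mp (cl2 g h)) m)
  have hτfpf' : ∀ g, (σ' ^ 2 ^ j) g * g⁻¹ ∈ Subgroup.center Y1 → g ∈ Subgroup.center Y1 := by
    intro g hg
    rw [Subgroup.mem_center_iff] at hg ⊢
    intro m
    have h1 := congrArg Subtype.val (hg m)
    simp only [Subgroup.coe_mul, hσ'pow, Subgroup.coe_inv] at h1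
    have hz : α g * g ∈ Subgroup.center Q := hY1Y g.2
    have hd : α g * (g : Q)⁻¹ ∈ Subgroup.centralizer {(m : Q)} := by
      rw [Subgroup.mem_centralizer_iff]
      intro w hw
      rw [Set.mem_singleton_iff] at hw
      rw [hw]; exact h1
    have hz' : α g * g ∈ Subgroup.centralizer {(m : Q)} := by
      rw [Subgroup.mem_centralizer_iff]
      intro w _
      exact (Subgroup.mem_center_iff.mp hz) w
    have h2 : (g : Q) * g ∈ Subgroup.centralizer {(m : Q)} := by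
      have e : (g : Q) * g = (α g * (g : Q)⁻¹)⁻¹ * (α g * g) := by group
      rw [e]
      exact Subgroup.mul_mem _ (Subgroup.inv_mem _ hd) hz'
    have h3 := XWb_mem_of_sq hodd _ h2
    exact Subtype.ext ((Subgroup.mem_centralizer_iff.mp h3) m rfl)
  have hgen' : Subgroup.closure {y : Y1 | ∃ g, y = (σ' ^ 2 ^ j) g * g⁻¹} = ⊤ := by
    have hle : Y1 ≤ (Subgroup.closure {y : Y1 | ∃ g, y = (σ' ^ 2 ^ j) g * g⁻¹}).map Y1.subtype := by
      conv_lhs => rw [hY1]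
      rw [Subgroup.closure_le]
      rintro _ ⟨y, hy, rfl⟩
      have hdm : α y * y⁻¹ ∈ Y1 := Subgroup.subset_closure ⟨y, hy, rfl⟩
      have h1 : (α y * y⁻¹)⁻¹ * (α y * y⁻¹)⁻¹ ∈
          (Subgroup.closure {y : Y1 | ∃ g, y = (σ' ^ 2 ^ j) g * g⁻¹}).map Y1.subtype := by
        refine ⟨(σ' ^ 2 ^ j) ⟨_, hdm⟩ * (⟨_, hdm⟩ : Y1)⁻¹, Subgroup.subset_closure ⟨_, rfl⟩, ?_⟩
        show (((σ' ^ 2 ^ j) ⟨_, hdm⟩ * (⟨_, hdm⟩ : Y1)⁻¹ : Y1) : Q) = _
        rw [Subgroup.coe_mul, hσ'pow, Subgroup.coe_inv]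
        show α (α y * y⁻¹) * (α y * y⁻¹)⁻¹ = _
        rw [map_mul, map_inv, hαα, hYfix y hy]
        group
      have h2 := XWb_mem_of_sq hodd _ h1
      have h3 := Subgroup.inv_mem _ h2
      rwa [inv_inv] at h3
    rw [eq_top_iff]
    rintro ⟨g, hg⟩ -
    obtain ⟨z, hz, hzg⟩ := hle hg
    have : z = ⟨g, hg⟩ := Subtype.ext hzg
    rw [← this]
    exact hz
  have hna' : ∃ g h : Y1, ρ' ⁅g, h⁆ ≠ 1 := by
    refine ⟨⟨α g₀ * g₀⁻¹, Subgroup.subset_closure ⟨g₀, hg₀Y, rfl⟩⟩,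
      ⟨α h' * h'⁻¹, Subgroup.subset_closure ⟨h', hh'Y, rfl⟩⟩, ?_⟩
    intro h1
    have h2 := congrArg (fun f : Module.End E Up => ((f ⟨v₀, hxv₀⟩ : Up) : U)) h1
    have h3 : ρ ⁅α g₀ * g₀⁻¹, α h' * h'⁻¹⁆ v₀ = v₀ := h2
    rw [hwt _ (cl2 _ _), hpair] at h3
    have h4 : ((μ ⁅g₀, h₀⁆) ^ 16 - 1) • v₀ = 0 := by rw [sub_smul, h3, one_smul, sub_self]
    rcases smul_eq_zero.1 h4 with h | h
    · exact hβ16 (sub_eq_zero.1 h)
    · exact hv₀ h
  obtain ⟨⟨a, ha2, hale, hqa⟩, _⟩ := gen hq hq2 (hQ.to_subgroup Y1) ρ' x' σ' j hσ'1 hx' tw' hfix'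
    h2E hqE cl2' hτfpf' hgen' hna'
  rw [hq1] at hqa
  have := Nat.pow_right_injective (le_refl 2) hqa
  omega

end Cfsg.Agent.Lib.Helper85.Gross
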