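import Mathlib
import Cfsg.Agent.Lib.Helper46.Shult.T1
import Cfsg.Agent.Lib.Helper85.Gross.XWa
import Cfsg.Agent.Lib.Helper85.Gross.XWb

set_option autoImplicit false
set_option linter.unusedSectionVars false
set_option linter.unusedVariables false

namespace Cfsg.Agent.Lib.Helper85.Gross

open scoped commutatorElement
open Cfsg.Agent.Lib.Helper46.Shult

variable {E : Type*} [Field E] {U : Type*} [AddCommGroup U] [Module E U]
  {Q : Type*} [Group Q] [Finite Q]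

/-- [XG] -/
theorem XG [IsAlgClosed E] [FiniteDimensional E U]
    {q : ℕ} (hq : q.Prime) (hq2 : q ≠ 2) (hQ : IsPGroup q Q)
    (n : ℕ) (σ : MulAut Q) (hσ : σ ^ 2 ^ (n + 2) = 1)
    (ρ : Q →* Module.End E U) (x : Module.End E U) (hx : x ^ 2 ^ (n + 2) = 1)
    (tw : ∀ g, x * ρ g = ρ (σ g) * x)
    (h2E : (2 : E) ≠ 0) (hqE : (q : E) ≠ 0) (hfix : ∀ v, x v = v → v = 0)
    (cl2 : ∀ g h : Q, ⁅g, h⁆ ∈ Subgroup.center Q)
    (hτZ : ∀ z ∈ Subgroup.center Q, (σ ^ 2 ^ (n + 1)) z = z)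
    (μ : Q → E) (v₀ : U) (hv₀ : v₀ ≠ 0) (hwt : ∀ z ∈ Subgroup.center Q, ρ z v₀ = μ z • v₀)
    (hnt : ∃ h₁ h₂ : Q, μ ⁅(σ ^ 2 ^ (n + 1)) h₁ * h₁⁻¹, h₂⁆ ≠ 1)
    (g₀ : Q) (hg₀ : (σ ^ 2 ^ n) g₀ * g₀ ∈ Subgroup.center Q) : ∀ h, μ ⁅g₀, h⁆ = 1 := by
  classical
  -- the stabilizer exponent
  have hex : ∃ m, ∀ z ∈ Subgroup.center Q, μ ((σ ^ 2 ^ m) z) = μ z :=
    ⟨n + 1, fun z hz => by rw [hτZ z hz]⟩
  set m := Nat.find hex with hm
  have hstab : ∀ z ∈ Subgroup.center Q, μ ((σ ^ 2 ^ m) z) = μ z := Nat.find_spec hex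
  have hminm : ∀ m' < m, ∃ z ∈ Subgroup.center Q, μ ((σ ^ 2 ^ m') z) ≠ μ z := by
    intro m' hm'
    have := Nat.find_min hex hm'
    push Not at this
    exact this
  have hnofix : ∀ v, (∀ z ∈ Subgroup.center Q, ρ z v = μ z • v) → (x ^ 2 ^ m) v = v → v = 0 :=
    fun v hv hxv =>
      no_fix_on_weight ρ x σ Nat.prime_two (n + 2) m hσ hx tw hfix μ hstab hminm v hv hxv
  have hmn1 : m ≤ n + 1 := Nat.find_min' hex (fun z hz => by rw [hτZ z hz])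
  obtain ⟨k, hk⟩ : ∃ k, n + 1 = m + k := ⟨n + 1 - m, by omega⟩
  set σ₁ : MulAut Q := σ ^ 2 ^ m with hσ₁
  set x₁ : Module.End E U := x ^ 2 ^ m with hx₁
  have hσ₁k : σ₁ ^ 2 ^ k = σ ^ 2 ^ (n + 1) := by
    rw [hσ₁, ← pow_mul, ← pow_add, hk]
  have hσ₁k1 : σ₁ ^ 2 ^ (k + 1) = 1 := by
    rw [hσ₁, ← pow_mul, ← pow_add, ← hσ]
    congr 2
    omega
  have hx₁k1 : x₁ ^ 2 ^ (k + 1) = 1 := by
    rw [hx₁, ← pow_mul, ← pow_add, ← hx]
    congr 2
    omega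
  have tw₁ : ∀ g, x₁ * ρ g = ρ (σ₁ g) * x₁ := fun g => tw_pow tw _ g
  -- the weight space
  let Uμ : Submodule E U :=
    { carrier := {v | ∀ z ∈ Subgroup.center Q, ρ z v = μ z • v}
      add_mem' := by
        intro a b ha hb z hz
        rw [map_add, ha z hz, hb z hz, smul_add]
      zero_mem' := by
        intro z hz
        simp
      smul_mem' := by
        intro c a ha z hz
        rw [map_smul, ha z hz, smul_comm] }
  have hUρ : ∀ g, ∀ v ∈ Uμ, ρ g v ∈ Uμ := by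
    intro g v hv z hz
    have h1 : ρ z (ρ g v) = ρ g (ρ z v) := by
      rw [← Module.End.mul_apply, ← Module.End.mul_apply, ← map_mul, ← map_mul,
        Subgroup.mem_center_iff.1 hz g]
    rw [h1, hv z hz, map_smul]
  have hUx : ∀ v ∈ Uμ, x₁ v ∈ Uμ := by
    intro v hv z hz
    have hz' : σ₁⁻¹ z ∈ Subgroup.center Q := center_mem_of_aut _ hz
    have h1 := congrArg (fun f : Module.End E U => f v) (tw₁ (σ₁⁻¹ z))
    simp only [Module.End.mul_apply, MulAut.apply_inv_self] at h1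
    rw [← h1, hv _ hz', map_smul]
    congr 1
    have := hstab _ hz'
    rw [MulAut.apply_inv_self] at this
    exact this.symm
  let ρμ : Q →* Module.End E Uμ :=
    { toFun := fun g => (ρ g).restrict (hUρ g)
      map_one' := by
        ext v; simp
      map_mul' := by
        intro g h
        ext v; simp }
  let xμ : Module.End E Uμ := x₁.restrict hUx
  have hntU : Nontrivial Uμ := ⟨⟨⟨v₀, hwt⟩, 0, fun h => hv₀ (congrArg Subtype.val h)⟩⟩
  have hxμ : xμ ^ 2 ^ (k + 1) = 1 := by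
    ext v
    have h1 : (xμ ^ 2 ^ (k + 1)) v = ⟨(x₁ ^ 2 ^ (k + 1)) v, by rw [hx₁k1]; exact v.2⟩ := by
      have := Module.End.pow_restrict (f' := x₁) (2 ^ (k + 1)) hUx
      show ((x₁.restrict hUx) ^ 2 ^ (k + 1)) v = _
      rw [this]; rfl
    rw [h1]; simp [hx₁k1]
  have twμ : ∀ g, xμ * ρμ g = ρμ (σ₁ g) * xμ := by
    intro g
    ext v
    have := congrArg (fun f : Module.End E U => f v) (tw₁ g)
    simp only [Module.End.mul_apply] at this
    exact this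
  have hfixμ : ∀ v, xμ v = v → v = 0 := by
    intro v hv
    have h1 : x₁ (v : U) = v := congrArg Subtype.val hv
    exact Subtype.ext (hnofix _ v.2 h1)
  have hwtμ : ∀ z ∈ Subgroup.center Q, ∀ v, ρμ z v = μ z • v := by
    intro z hz v
    exact Subtype.ext (v.2 z hz)
  obtain ⟨hq1, j, hkj, v, hv0, hv⟩ := XWa hq hq2 hQ ρμ xμ σ₁ k hσ₁k1 hxμ twμ hfixμ h2E hqE cl2
    (by rw [hσ₁k]; exact hτZ) μ hwtμ (by rw [hσ₁k]; exact hnt)
  subst hkj
  have hσ₁j : σ₁ ^ 2 ^ j = σ ^ 2 ^ n := by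
    rw [hσ₁, ← pow_mul, ← pow_add]
    congr 2
    omega
  refine XWb hq hq2 hQ ρμ xμ σ₁ j hσ₁k1 hxμ twμ hfixμ h2E hqE cl2
    (by rw [hσ₁k]; exact hτZ) μ hwtμ hq1 ⟨v, hv0, ?_⟩ g₀ (by rw [hσ₁j]; exact hg₀)
  have hpow : ∀ i : ℕ, ((xμ ^ 2) ^ i) v = v := by
    intro i
    induction i with
    | zero => simp
    | succ i ih => rw [pow_succ, Module.End.mul_apply, hv, ih]
  rw [pow_succ' 2 j, pow_mul]
  exact hpow _

end Cfsg.Agent.Lib.Helper85.Gross
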