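import Mathlib
import Cfsg.Agent.Lib.Helper46.Shult.Tg
import Cfsg.Agent.Lib.Helper85.Gross.XG
import Cfsg.Agent.Lib.Helper85.Gross.CW

set_option autoImplicit false
set_option linter.unusedSectionVars false
set_option linter.unusedVariables false

namespace Cfsg.Agent.Lib.Helper85.Gross

open scoped commutatorElement
open Cfsg.Agent.Lib.Helper46.Shult

theorem Xabs_comm_mul {Q : Type*} [Group Q] (cl2 : ∀ g h : Q, ⁅g, h⁆ ∈ Subgroup.center Q)
    (g g' h : Q) : ⁅g * g', h⁆ = ⁅g', h⁆ * ⁅g, h⁆ := by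
  have e1 : ⁅g * g', h⁆ = g * ⁅g', h⁆ * g⁻¹ * ⁅g, h⁆ := by
    simp only [commutatorElement_def]; group
  have e2 : g * ⁅g', h⁆ = ⁅g', h⁆ * g := Subgroup.mem_center_iff.1 (cl2 g' h) g
  rw [e1, e2, mul_inv_cancel_right]

theorem Xabs_comm_inv {Q : Type*} [Group Q] (cl2 : ∀ g h : Q, ⁅g, h⁆ ∈ Subgroup.center Q)
    (g h : Q) : ⁅g⁻¹, h⁆ = ⁅g, h⁆⁻¹ := by
  have e1 := Xabs_comm_mul cl2 g g⁻¹ h
  rw [mul_inv_cancel, commutatorElement_one_left] at e1
  exact eq_inv_of_mul_eq_one_left e1.symm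

/-- [Xabs] -/
theorem X_abs {A : Type*} [CommGroup A] [Finite A] {Q : Type*} [Group Q] [Finite Q]
    {q r : ℕ} (hq : q.Prime) (hr : r.Prime) (hqr : q ≠ r) (hq2 : q ≠ 2) (hr2 : r ≠ 2)
    (hexp : ∀ a : A, a ^ r = 1) (hQ : IsPGroup q Q)
    (n : ℕ) (σ : MulAut Q) (hσ : σ ^ 2 ^ (n + 2) = 1)
    (c : Q →* MulAut A) (hc : Function.Injective c) (X : MulAut A) (hX : X ^ 2 ^ (n + 2) = 1)
    (tw : ∀ g, X * c g = c (σ g) * X) (hXf : ∀ a, X a = a → a = 1)
    (cl2 : ∀ g h : Q, ⁅g, h⁆ ∈ Subgroup.center Q)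
    (hτZ : ∀ z ∈ Subgroup.center Q, (σ ^ 2 ^ (n + 1)) z = z)
    (g₀ : Q) (hg₀ : (σ ^ 2 ^ n) g₀ * g₀ ∈ Subgroup.center Q) (hg₀' : g₀ ∉ Subgroup.center Q) :
    ∃ R : Subgroup Q, R ≠ ⊤ ∧ (∀ h, (σ ^ 2 ^ (n + 1)) h * h⁻¹ ∈ R) ∧
      (∀ α : MulAut Q, (∀ z ∈ Subgroup.center Q, α z = z) → ∀ g ∈ R, α g ∈ R) := by
  have : Fact r.Prime := ⟨hr⟩
  have hqF : Fact q.Prime := ⟨hq⟩
  let _ : Module (ZMod r) (Additive A) := AddCommGroup.zmodModule (n := r) (by
    intro a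
    exact congrArg Additive.ofMul (hexp (Additive.toMul a)))
  obtain ⟨d, Φ, h1, h2⟩ := Cfsg.Agent.Lib.Helper46.ESBridge.exists_rep_of_action (p := r)
    (Cfsg.Agent.Lib.Lead.mulAutToEnd A)
  have hne : ∀ m : ℕ, m.Prime → m ≠ r → ((m : ℕ) : AlgebraicClosure (ZMod r)) ≠ 0 := by
    intro m hm hmr h0
    have : CharP (AlgebraicClosure (ZMod r)) r := inferInstance
    rw [CharP.cast_eq_zero_iff (AlgebraicClosure (ZMod r)) r] at h0
    exact hmr ((Nat.prime_dvd_prime_iff_eq hr hm).mp h0).symm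
  have hqE := hne q hq hqr
  have h2E : (2 : AlgebraicClosure (ZMod r)) ≠ 0 := by
    have := hne 2 Nat.prime_two (Ne.symm hr2)
    exact_mod_cast this
  obtain ⟨cQ, hcQ⟩ := IsPGroup.iff_card.1 hQ
  have hcardE : (Nat.card Q : AlgebraicClosure (ZMod r)) ≠ 0 := by
    rw [hcQ, Nat.cast_pow]; exact pow_ne_zero _ hqE
  -- a nontrivial commutator
  obtain ⟨h₀, hh₀⟩ : ∃ h₀ : Q, ⁅g₀, h₀⁆ ≠ 1 := by
    by_contra hcon
    push Not at hcon
    apply hg₀'
    rw [Subgroup.mem_center_iff]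
    intro h
    have := hcon h
    rw [commutatorElement_eq_one_iff_mul_comm] at this
    exact this.symm
  set ρ : Q →* Module.End (AlgebraicClosure (ZMod r)) (Fin d → AlgebraicClosure (ZMod r)) :=
    Φ.comp c with hρ
  have hρz₁ : ρ ⁅g₀, h₀⁆ ≠ 1 := by
    intro h
    apply hh₀
    apply hc
    rw [map_one]
    apply Cfsg.Agent.Lib.Lead.mulAutToEnd_injective A
    rw [h1 _ h, map_one]
  obtain ⟨μ, v₀, hv₀, hwt, hμ⟩ := exists_weight' ρ hcardE ⁅g₀, h₀⁆ (cl2 _ _) hρz₁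
  have hμmul : ∀ z ∈ Subgroup.center Q, ∀ w ∈ Subgroup.center Q, μ (z * w) = μ z * μ w := by
    intro z hz w hw
    have h1 := hwt (z * w) (Subgroup.mul_mem _ hz hw)
    rw [map_mul, Module.End.mul_apply, hwt w hw, map_smul, hwt z hz, smul_smul] at h1
    have h2 : (μ w * μ z - μ (z * w)) • v₀ = 0 := by rw [sub_smul, h1, sub_self]
    rcases smul_eq_zero.1 h2 with h | h
    · rw [mul_comm, ← sub_eq_zero.1 h]
    · exact absurd h hv₀
  have hμone : μ 1 = 1 := by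
    have h1 := hwt 1 (Subgroup.one_mem _)
    rw [map_one, Module.End.one_apply] at h1
    have h2 : (1 - μ 1) • v₀ = 0 := by rw [sub_smul, one_smul, ← h1, sub_self]
    rcases smul_eq_zero.1 h2 with h | h
    · exact (sub_eq_zero.1 h).symm
    · exact absurd h hv₀
  let R : Subgroup Q :=
    { carrier := {g | ∀ h, μ ⁅g, h⁆ = 1}
      one_mem' := by
        intro h
        rw [commutatorElement_one_left, hμone]
      mul_mem' := by
        intro a b ha hb h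
        rw [Xabs_comm_mul cl2, hμmul _ (cl2 _ _) _ (cl2 _ _), ha h, hb h, one_mul]
      inv_mem' := by
        intro a ha h
        have e := hμmul _ (cl2 a h) _ (Subgroup.inv_mem _ (cl2 a h))
        rw [mul_inv_cancel, hμone, ha h, one_mul] at e
        rw [Xabs_comm_inv cl2, ← e] }
  have hRmem : ∀ g, g ∈ R ↔ ∀ h, μ ⁅g, h⁆ = 1 := fun g => Iff.rfl
  refine ⟨R, ?_, ?_, ?_⟩
  · intro htop
    have : g₀ ∈ R := by rw [htop]; exact Subgroup.mem_top _
    exact hμ (this h₀)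
  · intro h₁
    by_contra hcon
    rw [hRmem] at hcon
    push Not at hcon
    obtain ⟨h₂, hh₂⟩ := hcon
    have key := XG (E := AlgebraicClosure (ZMod r)) (U := Fin d → AlgebraicClosure (ZMod r))
      hq hq2 hQ n σ hσ ρ (Φ X) (by rw [← map_pow, hX, map_one])
      (by
        intro g
        rw [hρ, MonoidHom.comp_apply, MonoidHom.comp_apply, ← map_mul, ← map_mul, tw])
      h2E hqE
      (by
        apply h2 X
        intro a ha
        rw [Cfsg.Agent.Lib.Lead.mulAutToEnd_apply] at ha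
        have h3 : X (Additive.toMul a) = Additive.toMul a := congrArg Additive.toMul ha
        exact congrArg Additive.ofMul (hXf _ h3))
      cl2 hτZ μ v₀ hv₀ hwt ⟨h₁, h₂, hh₂⟩ g₀ hg₀
    exact hμ (key h₀)
  · intro α hα g hg h
    have e : ⁅α g, h⁆ = α ⁅g, α⁻¹ h⁆ := by
      rw [map_commutatorElement', MulAut.apply_inv_self]
    rw [e, hα _ (cl2 _ _)]
    exact hg _

end Cfsg.Agent.Lib.Helper85.Gross
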