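import Mathlib
import Cfsg.Agent.Lib.Helper85.Gross.M1b
import Cfsg.Agent.Lib.Helper85.Gross.M2
import Cfsg.Agent.Lib.Helper85.Gross.M3
import Cfsg.Agent.Lib.Helper85.Gross.M4
import Cfsg.Agent.Lib.Helper85.Gross.Xabs

set_option autoImplicit false
set_option linter.unusedSectionVars false
set_option linter.unusedVariables false

namespace Cfsg.Agent.Lib.Helper85.Gross

open scoped commutatorElement

/-- [ACmin] -/
theorem ACmin {A : Type*} [CommGroup A] [Finite A] {S : Type*} [Group S] [Finite S]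
    {Q : Type*} [Group Q] [Finite Q]
    {q r s : ℕ} (hq : q.Prime) (hr : r.Prime) (hs : s.Prime) (hq2 : q ≠ 2) (hr2 : r ≠ 2)
    (hs2 : s ≠ 2) (hqr : q ≠ r) (hqs : q ≠ s) (hexp : ∀ a : A, a ^ r = 1) (hS : IsPGroup s S)
    (n : ℕ) (σS : MulAut S) (hσS : σS ^ 2 ^ (n + 2) = 1) (hfS : ∀ a, σS a = a → a = 1)
    (X : MulAut A) (hX : X ^ 2 ^ (n + 2) = 1) (hXf : ∀ a, X a = a → a = 1)
    (hQ : IsPGroup q Q) (σ : MulAut Q) (hσ : σ ^ 2 ^ (n + 2) = 1) (hfpf : ∀ g, σ g = g → g = 1)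
    (φ : S →* MulAut Q) (hφ : ∀ a, φ (σS a) = σ * φ a * σ⁻¹)
    (c : Q →* MulAut A) (hc : Function.Injective c) (tw : ∀ g, X * c g = c (σ g) * X)
    (hmin : ∀ H : Subgroup Q, H ≠ ⊤ → (∀ g ∈ H, σ g ∈ H) → (∀ a, ∀ g ∈ H, φ a g ∈ H) →
      ∀ a, ∀ g ∈ H, φ ((σS ^ 2 ^ (n + 1)) a) g = φ a g) :
    ∀ a, φ ((σS ^ 2 ^ (n + 1)) a) = φ a := by
  classical
  by_contra hcon
  push Not at hcon
  have hne : ∃ a, φ ((σS ^ 2 ^ (n + 1)) a) ≠ φ a := hcon
  -- compatibility for powers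
  have hφk : ∀ (k : ℕ) (a : S), φ ((σS ^ k) a) = σ ^ k * φ a * (σ ^ k)⁻¹ := by
    intro k
    induction k with
    | zero => intro a; simp
    | succ k ih =>
      intro a
      rw [pow_succ', MulAut.mul_apply, hφ, ih, pow_succ']
      group
  have hcommS : σS * σS ^ 2 ^ (n + 1) = σS ^ 2 ^ (n + 1) * σS := by
    rw [← pow_succ', ← pow_succ]
  by_cases hZ : Subgroup.center Q = ⊤
  · have h1 := M2 hq hr hqr hq2 hr2 hexp hQ n σ hσ c hc X hX tw hXf ⊤ (fun g _ => trivial)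
      (fun g _ h _ => by
        have : g ∈ Subgroup.center Q := by rw [hZ]; trivial
        exact (Subgroup.mem_center_iff.1 this h).symm)
    have h2 : σ ^ 2 ^ (n + 1) = 1 := by
      ext g
      exact h1 g trivial
    obtain ⟨a, ha⟩ := hne
    apply ha
    rw [hφk, h2]
    simp
  · obtain ⟨hD, -⟩ := M1 hq hs hqs hQ hS σ σS (σS ^ 2 ^ (n + 1)) hcommS φ hφ hmin hne
    obtain ⟨cl2, hexpQ, hBZ⟩ := M1b hq hs hqs hQ hS σ σS (σS ^ 2 ^ (n + 1)) hcommS φ hφ hmin hne hZ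
    have hτZ : ∀ z ∈ Subgroup.center Q, (σ ^ 2 ^ (n + 1)) z = z :=
      M2 hq hr hqr hq2 hr2 hexp hQ n σ hσ c hc X hX tw hXf (Subgroup.center Q)
        (fun g hg => by
          rw [Subgroup.mem_center_iff] at hg ⊢
          intro h
          have := congrArg σ (hg (σ⁻¹ h))
          simpa using this)
        (fun g hg h _ => (Subgroup.mem_center_iff.1 hg h).symm)
    obtain ⟨g₀, hg₀', hg₀⟩ := M3 hq hs hqs hq2 hs2 hQ hS n σ hσ hfpf σS hσS hfS φ hφ cl2 hexpQ hBZ hne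
    obtain ⟨R, hR, hRτ, hRinv⟩ := X_abs hq hr hqr hq2 hr2 hexp hQ n σ hσ c hc X hX tw hXf cl2 hτZ
      g₀ hg₀ hg₀'
    apply hR
    have hτS2 : (σS ^ 2 ^ (n + 1)) ^ 2 = 1 := by
      rw [← pow_mul, ← pow_succ, hσS]
    have hScop : (Nat.card S).Coprime 2 := by
      have : Fact s.Prime := ⟨hs⟩
      obtain ⟨k, hk⟩ := IsPGroup.iff_card.1 hS
      rw [hk]
      apply Nat.Coprime.pow_left
      exact (Nat.coprime_primes hs Nat.prime_two).2 hs2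
    exact M4 (σ ^ 2 ^ (n + 1)) (σS ^ 2 ^ (n + 1)) hτS2 hScop φ (fun a => hφk _ a) hD hBZ R hRτ hRinv

end Cfsg.Agent.Lib.Helper85.Gross
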