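import Mathlib
import Cfsg.Agent.Lib.Helper1.FPF
import Cfsg.Agent.Lib.Helper46.Shult.K
import Cfsg.Agent.Lib.Helper46.Shult.Tg
import Cfsg.Agent.Lib.Helper85.Gross.ACmin

set_option autoImplicit false
set_option linter.unusedSectionVars false
set_option linter.unusedVariables false

namespace Cfsg.Agent.Lib.Helper85.Gross

open scoped commutatorElement
open Cfsg.Agent.Lib.Helper1.FPF Cfsg.Agent.Lib.Helper46.Shult

universe u

/-- restriction of an action by automorphisms to an invariant subgroup -/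
noncomputable def AC3_res {S : Type*} [Group S] {Q : Type*} [Group Q] [Finite Q]
    (φ : S →* MulAut Q) (H : Subgroup Q) (h : ∀ a, ∀ g ∈ H, φ a g ∈ H) : S →* MulAut H where
  toFun a := restr (φ a) H (map_eq_of_forall_mem (φ a) H (h a))
  map_one' := by
    ext x
    simp
  map_mul' a b := by
    ext x
    simp

theorem AC3_res_coe {S : Type*} [Group S] {Q : Type*} [Group Q] [Finite Q]
    (φ : S →* MulAut Q) (H : Subgroup Q) (h : ∀ a, ∀ g ∈ H, φ a g ∈ H) (a : S) (x : H) :
    ((AC3_res φ H h a x : H) : Q) = φ a x := rfl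

/-- [AC3] -/
theorem AC3 {A : Type*} [CommGroup A] [Finite A] {S : Type*} [Group S] [Finite S]
    {q r s : ℕ} (hq : q.Prime) (hr : r.Prime) (hs : s.Prime) (hq2 : q ≠ 2) (hr2 : r ≠ 2)
    (hs2 : s ≠ 2) (hqr : q ≠ r) (hqs : q ≠ s) (hexp : ∀ a : A, a ^ r = 1) (hS : IsPGroup s S)
    (n : ℕ) (σS : MulAut S) (hσS : σS ^ 2 ^ (n + 2) = 1) (hfS : ∀ a, σS a = a → a = 1)
    (X : MulAut A) (hX : X ^ 2 ^ (n + 2) = 1) (hXf : ∀ a, X a = a → a = 1) :
    ∀ (N : ℕ) (Q : Type u) [Group Q] [Finite Q], Nat.card Q = N → IsPGroup q Q →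
      ∀ σ : MulAut Q, σ ^ 2 ^ (n + 2) = 1 → (∀ g, σ g = g → g = 1) →
      ∀ φ : S →* MulAut Q, (∀ a, φ (σS a) = σ * φ a * σ⁻¹) →
      ∀ c : Q →* MulAut A, Function.Injective c → (∀ g, X * c g = c (σ g) * X) →
      ∀ a, φ ((σS ^ 2 ^ (n + 1)) a) = φ a := by
  intro N
  induction N using Nat.strong_induction_on with
  | _ N ih =>
    intro Q _ _ hN hQ σ hσ hfpf φ hφ c hc tw
    refine ACmin hq hr hs hq2 hr2 hs2 hqr hqs hexp hS n σS hσS hfS X hX hXf hQ σ hσ hfpf φ hφ c hc tw
      ?_
    intro H hH hHσ hHφ a g hg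
    have hlt : Nat.card H < N := by
      rw [← hN]
      by_contra hge
      exact hH (Subgroup.eq_top_of_le_card H (not_lt.mp hge))
    have hmH := map_eq_of_forall_mem σ H hHσ
    have key := ih (Nat.card H) hlt H rfl (hQ.to_subgroup H) (restr σ H hmH)
      (by
        ext x
        rw [K_restr_pow, hσ]
        rfl)
      (by
        intro x hx
        apply Subtype.ext
        apply hfpf
        have := congrArg Subtype.val hx
        simpa using this)
      (AC3_res φ H hHφ)
      (by
        intro b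
        rw [eq_mul_inv_iff_mul_eq]
        ext x
        have h1 : φ (σS b) * σ = σ * φ b := by rw [hφ b]; group
        have h2 := DFunLike.congr_fun h1 (x : Q)
        simpa [AC3_res_coe] using h2)
      (c.comp H.subtype)
      (hc.comp H.subtype_injective)
      (by
        intro x
        exact tw x)
      a
    have h3 := congrArg (fun f : MulAut H => ((f ⟨g, hg⟩ : H) : Q)) key
    simpa [AC3_res_coe] using h3

end Cfsg.Agent.Lib.Helper85.Gross
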