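import Mathlib
import Cfsg.Agent.Lib.Helper46.Shult.K
import Cfsg.Agent.Lib.Helper46.Shult.Tg
import Cfsg.Agent.Lib.Helper85.Gross.AC3

set_option autoImplicit false
set_option linter.unusedSectionVars false
set_option linter.unusedVariables false

namespace Cfsg.Agent.Lib.Helper85.Gross

open scoped commutatorElement
open Cfsg.Agent.Lib.Helper1.FPF Cfsg.Agent.Lib.Helper46.Shult

/-- [BR] -/
theorem BR {X : Type*} [Group X] [Finite X] {A : Type*} [CommGroup A] [Finite A] {q r s : ℕ}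
    (hq : q.Prime) (hr : r.Prime) (hs : s.Prime) (hqr : q ≠ r) (hqs : q ≠ s)
    (hexp : ∀ a : A, a ^ r = 1) (n : ℕ) (σ : MulAut X) (hσ : σ ^ 2 ^ (n + 2) = 1)
    (hfpf : ∀ g, σ g = g → g = 1)
    (c : X →* MulAut A) (hc : Function.Injective c) (XA : MulAut A)
    (hXA : XA ^ 2 ^ (n + 2) = 1) (tw : ∀ g, XA * c g = c (σ g) * XA)
    (hXf : ∀ a, XA a = a → a = 1)
    (Q : Subgroup X) [Q.Normal] (hQ : IsPGroup q Q) (hQσ : ∀ g ∈ Q, σ g ∈ Q)
    (S : Subgroup X) (hS : IsPGroup s S) (hSσ : ∀ g ∈ S, σ g ∈ S) :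
    ∀ a ∈ S, ∀ g ∈ Q,
      ((σ ^ 2 ^ (n + 1)) a * a⁻¹) * g = g * ((σ ^ 2 ^ (n + 1)) a * a⁻¹) := by
  have hd := not_dvd_card_of_fpf Nat.prime_two σ (n + 2) hσ hfpf
  intro a ha g hg
  by_cases hq2 : q = 2
  · subst hq2
    rw [eq_one_of_isPGroup_of_not_dvd Nat.prime_two hd Q hQ g hg]
    simp
  by_cases hs2 : s = 2
  · subst hs2
    rw [eq_one_of_isPGroup_of_not_dvd Nat.prime_two hd S hS a ha]
    simp
  by_cases hr2 : r = 2
  · subst hr2
    have hdA := not_dvd_card_of_fpf Nat.prime_two XA (n + 2) hXA hXf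
    have hA1 : ∀ b : A, b = 1 := by
      intro b
      refine eq_one_of_isPGroup_of_not_dvd Nat.prime_two hdA ⊤ ?_ b (Subgroup.mem_top b)
      rintro ⟨x, hx⟩
      exact ⟨1, Subtype.ext (by simpa using hexp x)⟩
    have hX1 : ∀ x y : X, x = y := by
      intro x y
      apply hc
      ext b
      rw [hA1 (c x b), hA1 (c y b)]
    exact hX1 _ _
  have hmQ := map_eq_of_forall_mem σ Q hQσ
  have hmS := map_eq_of_forall_mem σ S hSσ
  let φ : S →* MulAut Q := (MulAut.conjNormal : X →* MulAut Q).comp S.subtype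
  have hφc : ∀ (x : S) (w : Q), ((φ x w : Q) : X) = (x : X) * w * (x : X)⁻¹ := fun x w => rfl
  have key := AC3 (A := A) (S := S) hq hr hs hq2 hr2 hs2 hqr hqs hexp hS n (restr σ S hmS)
    (by
      ext x
      rw [K_restr_pow, hσ]
      rfl)
    (by
      intro x hx
      apply Subtype.ext
      apply hfpf
      have := congrArg Subtype.val hx
      simpa using this)
    XA hXA hXf (Nat.card Q) Q rfl hQ (restr σ Q hmQ)
    (by
      ext x
      rw [K_restr_pow, hσ]
      rfl)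
    (by
      intro x hx
      apply Subtype.ext
      apply hfpf
      have := congrArg Subtype.val hx
      simpa using this)
    φ
    (by
      intro b
      rw [eq_mul_inv_iff_mul_eq]
      ext x
      rw [MulAut.mul_apply, MulAut.mul_apply, hφc, restr_coe, restr_coe, restr_coe, hφc, map_mul,
        map_mul, map_inv])
    (c.comp Q.subtype)
    (hc.comp Q.subtype_injective)
    (by
      intro x
      exact tw x)
    ⟨a, ha⟩
  have hw : a⁻¹ * g * a ∈ Q := by
    have := (inferInstance : Q.Normal).conj_mem g hg a⁻¹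
    simpa using this
  have h2 := congrArg (fun f : MulAut Q => ((f ⟨a⁻¹ * g * a, hw⟩ : Q) : X)) key
  simp only [hφc, K_restr_pow] at h2
  set t := (σ ^ 2 ^ (n + 1)) a with ht
  have h3 : t * (a⁻¹ * g * a) * t⁻¹ = g := by
    rw [h2]; group
  calc t * a⁻¹ * g = (t * (a⁻¹ * g * a) * t⁻¹) * (t * a⁻¹) := by group
    _ = g * (t * a⁻¹) := by rw [h3]

end Cfsg.Agent.Lib.Helper85.Gross
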