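import Mathlib
import Cfsg.Agent.Lib.Helper1.FPF

set_option autoImplicit false
set_option linter.unusedSectionVars false
set_option linter.unusedVariables false

namespace Cfsg.Agent.Lib.Helper85.Gross

open scoped commutatorElement
open Cfsg.Agent.Lib.Helper1.FPF

theorem K2b_nil_of_inj {A B : Type*} [Group A] [Group B] (f : A →* B) (hf : Function.Injective f)
    (hB : Group.IsNilpotent B) : Group.IsNilpotent A := by
  refine Subgroup.isNilpotent_of_ker_le_center f ?_
  rw [(MonoidHom.ker_eq_bot_iff f).2 hf]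
  exact bot_le

/-- [K2b] -/
theorem K2b {G : Type*} [Group G] [Finite G] (σ : MulAut G) (V : Subgroup G) [V.Normal]
    (hVσ : V.map (σ : G →* G) = V) (hVab : ∀ a ∈ V, ∀ b ∈ V, a * b = b * a)
    (Yb : Subgroup (G ⧸ V)) [Yb.Normal] (hYbσ : ∀ y ∈ Yb, quot σ V hVσ y ∈ Yb)
    (hYb : Group.IsNilpotent Yb) (hq : Group.IsNilpotent ((G ⧸ V) ⧸ Yb))
    (h2 : Group.IsNilpotent (G ⧸ Subgroup.centralizer (V : Set G))) :
    ∃ (Y : Subgroup G) (_ : Y.Normal), (∀ g ∈ Y, σ g ∈ Y) ∧ Group.IsNilpotent Y ∧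
      Group.IsNilpotent (G ⧸ Y) := by
  set C := Subgroup.centralizer (V : Set G) with hC
  set Y : Subgroup G := Yb.comap (QuotientGroup.mk' V) ⊓ C with hY
  have hYn : Y.Normal := inferInstance
  refine ⟨Y, hYn, ?_, ?_, ?_⟩
  · intro g hg
    obtain ⟨h1, h3⟩ := Subgroup.mem_inf.1 hg
    refine Subgroup.mem_inf.2 ⟨?_, ?_⟩
    · rw [Subgroup.mem_comap] at h1 ⊢
      exact hYbσ _ h1
    · rw [hC, Subgroup.mem_centralizer_iff] at h3 ⊢
      intro v hv
      have hv' : v ∈ V.map (σ : G →* G) := by rw [hVσ]; exact hv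
      obtain ⟨w, hw, rfl⟩ := hv'
      have := h3 w hw
      change σ w * σ g = σ g * σ w
      rw [← map_mul, ← map_mul, this]
  · let f : Y →* Yb :=
      ((QuotientGroup.mk' V).comp Y.subtype).codRestrict Yb (fun y => (Subgroup.mem_inf.1 y.2).1)
    refine Subgroup.isNilpotent_of_ker_le_center f ?_
    intro y hy
    rw [MonoidHom.mem_ker] at hy
    have h1 : ((y : G) : G ⧸ V) = 1 := congrArg Subtype.val hy
    rw [QuotientGroup.eq_one_iff] at h1
    rw [Subgroup.mem_center_iff]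
    intro z
    apply Subtype.ext
    have h3 := (Subgroup.mem_inf.1 z.2).2
    rw [hC, Subgroup.mem_centralizer_iff] at h3
    exact (h3 y h1).symm
  · let f0 : G →* ((G ⧸ V) ⧸ Yb) × (G ⧸ C) :=
      ((QuotientGroup.mk' Yb).comp (QuotientGroup.mk' V)).prod (QuotientGroup.mk' C)
    have hk : ∀ g, g ∈ Y ↔ f0 g = 1 := by
      intro g
      rw [hY, Subgroup.mem_inf, Prod.ext_iff]
      constructor
      · rintro ⟨h1, h3⟩
        exact ⟨(QuotientGroup.eq_one_iff _).2 h1, (QuotientGroup.eq_one_iff _).2 h3⟩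
      · rintro ⟨h1, h3⟩
        refine ⟨?_, (QuotientGroup.eq_one_iff _).1 h3⟩
        rw [Subgroup.mem_comap]
        exact (QuotientGroup.eq_one_iff (N := Yb) (QuotientGroup.mk' V g)).1 h1
    let f : G ⧸ Y →* ((G ⧸ V) ⧸ Yb) × (G ⧸ C) :=
      QuotientGroup.lift Y f0 (fun g hg => (hk g).1 hg)
    apply K2b_nil_of_inj f _ inferInstance
    rw [injective_iff_map_eq_one]
    intro x hx
    obtain ⟨g, rfl⟩ := QuotientGroup.mk_surjective x
    rw [QuotientGroup.eq_one_iff]
    exact (hk g).2 hx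

end Cfsg.Agent.Lib.Helper85.Gross
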