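import Mathlib
import Cfsg.Prelude.Def_Solvable
import Cfsg.Agent.Lib.Helper1.FPF

set_option autoImplicit false
set_option linter.unusedSectionVars false
set_option linter.unusedVariables false

namespace Cfsg.Agent.Lib.Helper85.Gross

open scoped commutatorElement
open Cfsg.Agent.Lib.Helper1.FPF

/-- [KC1] -/
theorem KC1 {G : Type*} [Group G] [Finite G] (σ : MulAut G) {r : ℕ} (hr : r.Prime)
    (V : Subgroup G) [V.Normal] (hV : IsPGroup r V)
    (hVσ : V.map (σ : G →* G) = V)
    (hmin : ∀ M : Subgroup G, M.Normal → M.map (σ : G →* G) = M → M ≤ V → M = ⊥ ∨ M = V)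
    (P : Subgroup G) [P.Normal] (hPσ : P.map (σ : G →* G) = P)
    (hP : ∀ g ∈ P, ∃ k, g ^ r ^ k ∈ Subgroup.centralizer (V : Set G)) :
    P ≤ Subgroup.centralizer (V : Set G) := by
  have : Fact r.Prime := ⟨hr⟩
  by_cases hVb : V = ⊥
  · subst hVb
    intro g _
    rw [Subgroup.mem_centralizer_iff]
    intro v hv
    have : v = 1 := hv
    subst this
    simp
  set W : Subgroup G := V ⊓ Subgroup.centralizer (P : Set G) with hW
  have hWn : W.Normal := inferInstance
  have hWle : W.map (σ : G →* G) ≤ W := by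
    rintro _ ⟨w, hw, rfl⟩
    obtain ⟨h1, h2⟩ := Subgroup.mem_inf.1 hw
    refine Subgroup.mem_inf.2 ⟨?_, ?_⟩
    · rw [← hVσ]; exact Subgroup.mem_map_of_mem _ h1
    · rw [Subgroup.mem_centralizer_iff] at h2 ⊢
      intro x hx
      have hx' : x ∈ P.map (σ : G →* G) := by rw [hPσ]; exact hx
      obtain ⟨y, hy, rfl⟩ := hx'
      have := h2 y hy
      change σ y * σ w = σ w * σ y
      rw [← map_mul, ← map_mul, this]
  have hWσ : W.map (σ : G →* G) = W := by
    apply Subgroup.eq_of_le_of_card_ge hWle
    rw [Subgroup.card_map_of_injective (f := (σ : G →* G)) σ.injective]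
  have hWne : W ≠ ⊥ := by
    -- image of P in Aut V is an r-group
    let c : G →* MulAut V := MulAut.conjNormal
    have hPb : IsPGroup r (P.map c) := by
      rintro ⟨_, g, hg, rfl⟩
      obtain ⟨k, hk⟩ := hP g hg
      refine ⟨k, ?_⟩
      apply Subtype.ext
      change (c g) ^ r ^ k = 1
      rw [← map_pow]
      ext v
      simp only [c, MulAut.conjNormal_apply, MulAut.one_apply]
      rw [Subgroup.mem_centralizer_iff] at hk
      rw [← hk v v.2, mul_inv_cancel_right]
    have hVnt : Nontrivial V := (Subgroup.nontrivial_iff_ne_bot V).2 hVb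
    have hdvd : r ∣ Nat.card V := by
      obtain ⟨n, hn⟩ := IsPGroup.iff_card.1 hV
      rw [hn]
      have hn0 : n ≠ 0 := by
        rintro rfl
        rw [pow_zero] at hn
        have := Finite.one_lt_card (α := V)
        omega
      exact dvd_pow_self r hn0
    have h1fix : (1 : V) ∈ MulAction.fixedPoints (P.map c) V := by
      intro a
      exact map_one (a : MulAut V)
    obtain ⟨b, hb, hb1⟩ := hPb.exists_fixed_point_of_prime_dvd_card_of_fixed_point V hdvd h1fix
    intro hbot
    have hbW : (b : G) ∈ W := by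
      refine Subgroup.mem_inf.2 ⟨b.2, ?_⟩
      rw [Subgroup.mem_centralizer_iff]
      intro g hg
      have h3 := hb ⟨c g, Subgroup.mem_map_of_mem _ hg⟩
      have h4 : ((c g b : V) : G) = b := congrArg Subtype.val h3
      simp only [c, MulAut.conjNormal_apply] at h4
      exact mul_inv_eq_iff_eq_mul.mp h4
    rw [hbot, Subgroup.mem_bot] at hbW
    exact hb1 (Subtype.ext hbW.symm)
  rcases hmin W hWn hWσ inf_le_left with h | h
  · exact absurd h hWne
  · have hVC : V ≤ Subgroup.centralizer (P : Set G) := by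
      rw [← h]; exact inf_le_right
    exact Subgroup.le_centralizer_iff.1 hVC

end Cfsg.Agent.Lib.Helper85.Gross
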