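import Mathlib
import Cfsg.Agent.Lib.Helper1.FPF

set_option autoImplicit false
set_option linter.unusedSectionVars false
set_option linter.unusedVariables false

namespace Cfsg.Agent.Lib.Helper85.Gross

open scoped commutatorElement
open Cfsg.Agent.Lib.Helper1.FPF

theorem KC2_ker {G : Type*} [Group G] (V : Subgroup G) [V.Normal] :
    (MulAut.conjNormal : G →* MulAut V).ker = Subgroup.centralizer (V : Set G) := by
  ext g
  rw [MonoidHom.mem_ker, Subgroup.mem_centralizer_iff]
  constructor
  · intro h v hv
    have := congrArg (fun f : MulAut V => ((f ⟨v, hv⟩ : V) : G)) h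
    simp only [MulAut.conjNormal_apply, MulAut.one_apply] at this
    exact (mul_inv_eq_iff_eq_mul.mp this).symm
  · intro h
    ext v
    simp only [MulAut.conjNormal_apply, MulAut.one_apply]
    rw [← h v v.2, mul_inv_cancel_right]

/-- [KC2] -/
theorem KC2 {G : Type*} [Group G] (σ : MulAut G) (V : Subgroup G) [V.Normal]
    (hVσ : V.map (σ : G →* G) = V)
    (hCσ : (Subgroup.centralizer (V : Set G)).map (σ : G →* G) = Subgroup.centralizer (V : Set G)) :
    ∃ c : (G ⧸ Subgroup.centralizer (V : Set G)) →* MulAut V, Function.Injective c ∧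
      ∀ x, (restr σ V hVσ : MulAut V) * c x
        = c (quot σ (Subgroup.centralizer (V : Set G)) hCσ x) * (restr σ V hVσ : MulAut V) := by
  have hk := KC2_ker V
  refine ⟨QuotientGroup.lift _ (MulAut.conjNormal : G →* MulAut V) (fun g hg => ?_), ?_, ?_⟩
  · rw [← hk] at hg; exact hg
  · rw [injective_iff_map_eq_one]
    intro x hx
    obtain ⟨g, rfl⟩ := QuotientGroup.mk_surjective x
    rw [QuotientGroup.lift_mk] at hx
    rw [QuotientGroup.eq_one_iff, ← hk]
    exact hx
  · intro x
    obtain ⟨g, rfl⟩ := QuotientGroup.mk_surjective x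
    rw [quot_mk, QuotientGroup.lift_mk, QuotientGroup.lift_mk]
    ext v
    simp only [MulAut.mul_apply, restr_coe, MulAut.conjNormal_apply, map_mul, map_inv]

end Cfsg.Agent.Lib.Helper85.Gross
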