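import Mathlib
import Cfsg.Agent.Lib.Helper46.Shult.K

set_option autoImplicit false
set_option linter.unusedSectionVars false
set_option linter.unusedVariables false

namespace Cfsg.Agent.Lib.Helper85.Gross

open scoped commutatorElement
open Cfsg.Agent.Lib.Helper1 Cfsg.Agent.Lib.Helper1.FPF Cfsg.Agent.Lib.Helper46.Shult
open Pointwise

/-- [NQ] -/
theorem NQ {X : Type*} [Group X] [Finite X] (Y : Subgroup X) [Y.Normal]
    (hY : Group.IsNilpotent Y) (hXY : Group.IsNilpotent (X ⧸ Y))
    (H : ∀ (q s : ℕ), q.Prime → s.Prime → q ≠ s → ∀ y ∈ Y, (∃ k, y ^ q ^ k = 1) →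
      ∀ x : X, (∃ k, x ^ s ^ k = 1) → x * y = y * x) :
    Group.IsNilpotent X := by
  have q := (Group.isNilpotent_of_finite_tfae (G := X)).out 0 3
  rw [q]
  intro s hs Q
  have hQV : ((Q : Subgroup X) ⊔ Y).Normal := by
    have h1 : ((Sylow.mapSurjective (QuotientGroup.mk'_surjective Y) Q : Sylow s (X ⧸ Y)) :
        Subgroup (X ⧸ Y)).Normal := inferInstance
    have h2 := h1.comap (QuotientGroup.mk' Y)
    rwa [Sylow.coe_mapSurjective, Subgroup.comap_map_eq, QuotientGroup.ker_mk'] at h2
  have hYN : Y ≤ Subgroup.normalizer ((Q : Subgroup X) : Set X) := by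
    have htop : (Subgroup.normalizer ((Q : Subgroup X) : Set X)).subgroupOf Y = ⊤ := by
      apply K_eq_top_of_sylow
      intro t ht
      obtain ⟨T⟩ : Nonempty (Sylow t Y) := inferInstance
      refine ⟨T, ?_⟩
      by_cases hts : t = s
      · subst hts
        have hTn : (T : Subgroup Y).Normal := inferInstance
        have hTc : (T : Subgroup Y).Characteristic := Sylow.characteristic_of_normal T hTn
        have hTX : ((T : Subgroup Y).map Y.subtype).Normal :=
          ConjAct.normal_of_characteristic_of_normal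
        have hTp : IsPGroup t ((T : Subgroup Y).map Y.subtype) := T.isPGroup'.map _
        have hle := hTp.le_sylow_of_normal Q
        intro y hy
        rw [Subgroup.mem_subgroupOf]
        exact Subgroup.le_normalizer (hle (Subgroup.mem_map_of_mem _ hy))
      · intro y hy
        rw [Subgroup.mem_subgroupOf]
        apply Subgroup.centralizer_le_normalizer
        rw [Subgroup.mem_centralizer_iff]
        intro x hx
        obtain ⟨k, hk⟩ := T.isPGroup' ⟨y, hy⟩
        obtain ⟨l, hl⟩ := Q.isPGroup' ⟨x, hx⟩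
        refine H t s ht.out hs.out hts y y.2 ⟨k, ?_⟩ x ⟨l, ?_⟩
        · have := congrArg (fun z : (T : Subgroup Y) => ((z : Y) : X)) hk
          simpa using this
        · have := congrArg (fun z : (Q : Subgroup X) => (z : X)) hl
          simpa using this
    intro y hy
    have : (⟨y, hy⟩ : Y) ∈ (Subgroup.normalizer ((Q : Subgroup X) : Set X)).subgroupOf Y := by
      rw [htop]; trivial
    exact this
  have hQVN : (Q : Subgroup X) ⊔ Y ≤ Subgroup.normalizer ((Q : Subgroup X) : Set X) :=
    sup_le Subgroup.le_normalizer hYN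
  rw [← Subgroup.normalizer_eq_top_iff, eq_top_iff]
  intro g _
  rw [mem_normalizer_iff_conj_smul]
  have h1 : MulAut.conj g • (Q : Subgroup X) ≤ (Q : Subgroup X) ⊔ Y := by
    rw [← Subgroup.Normal.conj_smul_eq_self g ((Q : Subgroup X) ⊔ Y)]
    exact Subgroup.pointwise_smul_le_pointwise_smul_iff.2 le_sup_left
  have hi : ∀ R : Sylow s X, (R : Subgroup X) ≤ (Q : Subgroup X) ⊔ Y →
      ¬ s ∣ (R : Subgroup X).relIndex ((Q : Subgroup X) ⊔ Y) :=
    fun R hR hd => R.not_dvd_index (hd.trans (Subgroup.relIndex_dvd_index_of_le hR))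
  have h2 := hi (g • Q) (by rw [Sylow.coe_subgroup_smul]; exact h1)
  rw [Sylow.coe_subgroup_smul] at h2
  obtain ⟨m, hm, hmQ⟩ := exists_conj_of_sylow_rel (p := s) le_sup_left h1 Q.isPGroup'
    (by rw [← Sylow.coe_subgroup_smul]; exact (g • Q).isPGroup') (hi Q le_sup_left) h2
  have h3 := mem_normalizer_iff_conj_smul.1 (hQVN hm)
  exact smul_left_cancel _ (hmQ.trans h3.symm)

end Cfsg.Agent.Lib.Helper85.Gross
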