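import Mathlib
import Cfsg.Prelude.Def_Solvable
import Cfsg.Agent.Lib.Helper46.Shult.K
import Cfsg.Agent.Lib.Helper1.Cores
import Cfsg.Agent.Lib.Helper91.Fitting
import Cfsg.Agent.Lib.Helper85.Gross.NQ

set_option autoImplicit false
set_option linter.unusedSectionVars false
set_option linter.unusedVariables false

namespace Cfsg.Agent.Lib.Helper85.Gross

open scoped commutatorElement
open Cfsg.Agent.Lib.Helper46.Shult
open MonoidHom (FixedPointFree)

/-- the `q`-elements of a nilpotent subgroup form a subgroup -/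
theorem NIL_exists_O {X : Type*} [Group X] [Finite X] (Y : Subgroup X) (hY : Group.IsNilpotent Y)
    (q : ℕ) [Fact q.Prime] :
    ∃ O : Subgroup X, ∀ x, x ∈ O ↔ x ∈ Y ∧ ∃ k, x ^ q ^ k = 1 := by
  obtain ⟨P⟩ : Nonempty (Sylow q Y) := inferInstance
  have hPn : (P : Subgroup Y).Normal := inferInstance
  refine ⟨(P : Subgroup Y).map Y.subtype, fun x => ⟨?_, ?_⟩⟩
  · rintro ⟨y, hy, rfl⟩
    refine ⟨y.2, ?_⟩
    obtain ⟨k, hk⟩ := P.isPGroup' ⟨y, hy⟩
    refine ⟨k, ?_⟩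
    have := congrArg (fun z : (P : Subgroup Y) => ((z : Y) : X)) hk
    simpa using this
  · rintro ⟨hx, k, hk⟩
    have hz : IsPGroup q (Subgroup.zpowers (⟨x, hx⟩ : Y)) := by
      obtain ⟨j, -, hj⟩ := (Nat.dvd_prime_pow (Fact.out : q.Prime)).1
        (orderOf_dvd_of_pow_eq_one (x := (⟨x, hx⟩ : Y)) (n := q ^ k) (Subtype.ext (by simpa using hk)))
      exact IsPGroup.of_card (n := j) (by rw [Nat.card_zpowers, hj])
    obtain ⟨P', hP'⟩ := hz.exists_le_sylow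
    have : Subsingleton (Sylow q Y) := (Sylow.unique_of_normal P hPn).instSubsingleton
    have hPP : P' = P := Subsingleton.elim _ _
    exact ⟨⟨x, hx⟩, hPP ▸ hP' (Subgroup.mem_zpowers _), rfl⟩

theorem NIL_eq_one {X : Type*} [Group X] {q t : ℕ} (hq : q.Prime) (ht : t.Prime) (hqt : q ≠ t)
    {c : X} {k l : ℕ} (h1 : c ^ q ^ k = 1) (h2 : c ^ t ^ l = 1) : c = 1 := by
  have hcop : Nat.Coprime (q ^ k) (t ^ l) := Nat.Coprime.pow _ _ ((Nat.coprime_primes hq ht).2 hqt)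
  exact orderOf_eq_one_iff.1 (Nat.eq_one_of_dvd_coprimes hcop (orderOf_dvd_of_pow_eq_one h1)
    (orderOf_dvd_of_pow_eq_one h2))

/-- elements of coprime prime power orders of a nilpotent subgroup commute -/
theorem NIL_comm {X : Type*} [Group X] [Finite X] (Y : Subgroup X) (hY : Group.IsNilpotent Y)
    {q t : ℕ} (hq : q.Prime) (ht : t.Prime) (hqt : q ≠ t) {o y : X} (ho : o ∈ Y) (hy : y ∈ Y)
    (ho' : ∃ k, o ^ q ^ k = 1) (hy' : ∃ k, y ^ t ^ k = 1) : y * o = o * y := by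
  have : Fact q.Prime := ⟨hq⟩
  have : Fact t.Prime := ⟨ht⟩
  obtain ⟨O, hO⟩ := NIL_exists_O Y hY q
  obtain ⟨T, hT⟩ := NIL_exists_O Y hY t
  have hconj : ∀ (p : ℕ) (a b : X), a ∈ Y → b ∈ Y → (∃ k, b ^ p ^ k = 1) →
      (a * b * a⁻¹ ∈ Y ∧ ∃ k, (a * b * a⁻¹) ^ p ^ k = 1) := by
    rintro p a b ha hb ⟨k, hk⟩
    exact ⟨Y.mul_mem (Y.mul_mem ha hb) (Y.inv_mem ha), k, by rw [conj_pow, hk, mul_one, mul_inv_cancel]⟩
  have h1 : y * o * y⁻¹ * o⁻¹ ∈ O :=
    O.mul_mem ((hO _).2 (hconj q y o hy ho ho')) (O.inv_mem ((hO _).2 ⟨ho, ho'⟩))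
  have h2 : y * o * y⁻¹ * o⁻¹ ∈ T := by
    have e : y * o * y⁻¹ * o⁻¹ = y * (o * y * o⁻¹)⁻¹ := by group
    rw [e]
    exact T.mul_mem ((hT _).2 ⟨hy, hy'⟩) (T.inv_mem ((hT _).2 (hconj t o y ho hy hy')))
  obtain ⟨-, k, hk⟩ := (hO _).1 h1
  obtain ⟨-, l, hl⟩ := (hT _).1 h2
  have h3 := NIL_eq_one hq ht hqt hk hl
  have : y * o = (y * o * y⁻¹ * o⁻¹) * (o * y) := by group
  rw [this, h3, one_mul]

theorem NIL_pow_mem {X : Type*} [Group X] (σ : MulAut X) (S : Subgroup X) (h : ∀ g ∈ S, σ g ∈ S)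
    (k : ℕ) : ∀ g ∈ S, (σ ^ k) g ∈ S := by
  induction k with
  | zero => intro g hg; simpa using hg
  | succ k ih =>
    intro g hg
    rw [pow_succ, MulAut.mul_apply]
    exact ih _ (h g hg)

/-- [NIL] -/
theorem NIL {X : Type*} [Group X] [Finite X] (σ : MulAut X) (n : ℕ) (hσ : σ ^ 2 ^ (n + 2) = 1)
    (hfpf : ∀ g, σ g = g → g = 1)
    (hgen : Subgroup.closure {y : X | ∃ g, y = (σ ^ 2 ^ (n + 1)) g * g⁻¹} = ⊤)
    (Y : Subgroup X) [Y.Normal] (hYσ : ∀ g ∈ Y, σ g ∈ Y)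
    (hY : Group.IsNilpotent Y) (hXY : Group.IsNilpotent (X ⧸ Y))
    (H : ∀ (q s : ℕ), q.Prime → s.Prime → q ≠ s → ∀ Q : Subgroup X, Q.Normal → IsPGroup q Q →
      (∀ g ∈ Q, σ g ∈ Q) → ∀ S : Subgroup X, IsPGroup s S → (∀ g ∈ S, σ g ∈ S) →
      ∀ a ∈ S, ∀ g ∈ Q,
        ((σ ^ 2 ^ (n + 1)) a * a⁻¹) * g = g * ((σ ^ 2 ^ (n + 1)) a * a⁻¹)) :
    Group.IsNilpotent X := by
  have hφ : FixedPointFree (σ : X ≃* X) := hfpf
  set τ : MulAut X := σ ^ 2 ^ (n + 1) with hτ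
  apply NQ Y hY hXY
  intro q s hq hs hqs y hyY hyq x hxs
  have : Fact q.Prime := ⟨hq⟩
  obtain ⟨O, hO⟩ := NIL_exists_O Y hY q
  have hOn : O.Normal := by
    constructor
    intro o ho g
    obtain ⟨h1, k, hk⟩ := (hO o).1 ho
    exact (hO _).2 ⟨(inferInstance : Y.Normal).conj_mem o h1 g, k, by
      rw [conj_pow, hk, mul_one, mul_inv_cancel]⟩
  have hOσ : ∀ g ∈ O, σ g ∈ O := by
    intro o ho
    obtain ⟨h1, k, hk⟩ := (hO o).1 ho
    exact (hO _).2 ⟨hYσ o h1, k, by rw [← map_pow, hk, map_one]⟩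
  have hOp : IsPGroup q O := by
    intro o
    obtain ⟨-, k, hk⟩ := (hO o).1 o.2
    exact ⟨k, Subtype.ext (by simpa using hk)⟩
  set C := Subgroup.centralizer (O : Set X) with hC
  have hCn : C.Normal := inferInstance
  obtain ⟨R, hR⟩ := Cfsg.Agent.S0031.result σ hφ q
  have hRσ : ∀ g ∈ (R : Subgroup X), σ g ∈ (R : Subgroup X) := by
    intro g hg
    rw [← hR]
    exact Subgroup.mem_map_of_mem _ hg
  have hRY : ((R : Subgroup X) ⊔ Y).Normal := by
    have h1 : ((Sylow.mapSurjective (QuotientGroup.mk'_surjective Y) R : Sylow q (X ⧸ Y)) :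
        Subgroup (X ⧸ Y)).Normal := inferInstance
    have h2 := h1.comap (QuotientGroup.mk' Y)
    rw [Sylow.coe_mapSurjective, Subgroup.comap_map_eq, QuotientGroup.ker_mk'] at h2
    exact h2
  set L := C ⊔ ((R : Subgroup X) ⊔ Y) with hL
  have hLn : L.Normal := inferInstance
  let S' : Subgroup X :=
    { carrier := {g | τ g * g⁻¹ ∈ L}
      mul_mem' := by
        intro a b ha hb
        have h1 : τ (a * b) * (a * b)⁻¹ = τ a * a⁻¹ * (a * (τ b * b⁻¹) * a⁻¹) := by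
          rw [map_mul]; group
        show τ (a * b) * (a * b)⁻¹ ∈ L
        rw [h1]
        exact L.mul_mem ha (hLn.conj_mem _ hb a)
      one_mem' := by
        show τ 1 * 1⁻¹ ∈ L
        simp
      inv_mem' := by
        intro a ha
        have h1 : τ a⁻¹ * a⁻¹⁻¹ = a⁻¹ * (τ a * a⁻¹)⁻¹ * a⁻¹⁻¹ := by
          rw [map_inv]; group
        show τ a⁻¹ * a⁻¹⁻¹ ∈ L
        rw [h1]
        exact hLn.conj_mem _ (L.inv_mem ha) a⁻¹ }
  have hS' : S' = ⊤ := by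
    apply K_eq_top_of_sylow
    intro t ht
    by_cases htq : t = q
    · subst htq
      refine ⟨R, fun g hg => ?_⟩
      have h1 : τ g ∈ (R : Subgroup X) := NIL_pow_mem σ _ hRσ _ g hg
      exact (le_sup_right : _ ≤ L) ((le_sup_left : (R : Subgroup X) ≤ _)
        ((R : Subgroup X).mul_mem h1 ((R : Subgroup X).inv_mem hg)))
    · obtain ⟨Q₀, hQ₀⟩ := Cfsg.Agent.S0031.result σ hφ t
      refine ⟨Q₀, fun g hg => (le_sup_left : C ≤ L) ?_⟩
      rw [hC, Subgroup.mem_centralizer_iff]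
      intro v hv
      have hQσ : ∀ g ∈ (Q₀ : Subgroup X), σ g ∈ (Q₀ : Subgroup X) := by
        intro g hg
        rw [← hQ₀]
        exact Subgroup.mem_map_of_mem _ hg
      exact (H q t hq ht.out (Ne.symm htq) O hOn hOp hOσ Q₀ Q₀.isPGroup' hQσ g hg v hv).symm
  have hLtop : L = ⊤ := by
    rw [eq_top_iff, ← hgen, Subgroup.closure_le]
    rintro _ ⟨g, rfl⟩
    have : g ∈ S' := by rw [hS']; trivial
    exact this
  -- `Y ≤ R ⊔ C`
  have hYM : Y ≤ (R : Subgroup X) ⊔ C := by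
    have h1 : (((R : Subgroup X) ⊔ C).subgroupOf Y) = ⊤ := by
      apply K_eq_top_of_sylow
      intro t ht
      obtain ⟨P⟩ : Nonempty (Sylow t Y) := inferInstance
      refine ⟨P, fun z hz => ?_⟩
      rw [Subgroup.mem_subgroupOf]
      have hzt : ∃ k, (z : X) ^ t ^ k = 1 := by
        obtain ⟨k, hk⟩ := P.isPGroup' ⟨z, hz⟩
        refine ⟨k, ?_⟩
        have := congrArg (fun w : (P : Subgroup Y) => ((w : Y) : X)) hk
        simpa using this
      by_cases htq : t = q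
      · subst htq
        exact (le_sup_left : (R : Subgroup X) ≤ _) (hOp.le_sylow_of_normal R ((hO _).2 ⟨z.2, hzt⟩))
      · refine (le_sup_right : C ≤ _) ?_
        rw [hC, Subgroup.mem_centralizer_iff]
        intro o ho
        obtain ⟨h1, h2⟩ := (hO o).1 ho
        exact (NIL_comm Y hY hq ht.out (Ne.symm htq) h1 z.2 h2 hzt).symm
    intro z hz
    have : (⟨z, hz⟩ : Y) ∈ (((R : Subgroup X) ⊔ C).subgroupOf Y) := by rw [h1]; trivial
    exact this
  have hMtop : (R : Subgroup X) ⊔ C = ⊤ := by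
    rw [eq_top_iff, ← hLtop, hL]
    exact sup_le le_sup_right (sup_le le_sup_left hYM)
  have hGC : IsPGroup q (X ⧸ C) := by
    refine IsPGroup.of_surjective R.isPGroup' ((QuotientGroup.mk' C).comp (R : Subgroup X).subtype) ?_
    intro x
    obtain ⟨x, rfl⟩ := QuotientGroup.mk_surjective x
    have hx : x ∈ ((((R : Subgroup X) ⊔ C : Subgroup X)) : Set X) := by rw [hMtop]; trivial
    rw [Subgroup.mul_normal] at hx
    obtain ⟨a, ha, c, hc, rfl⟩ := hx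
    refine ⟨⟨a, ha⟩, ?_⟩
    show (a : X ⧸ C) = ((a * c : X) : X ⧸ C)
    rw [QuotientGroup.eq]
    simpa using hc
  have h1 : ((x : X) : X ⧸ C) = 1 := by
    obtain ⟨k, hk⟩ := hGC (x : X ⧸ C)
    obtain ⟨l, hl⟩ := hxs
    have hl' : ((x : X) : X ⧸ C) ^ s ^ l = 1 := by
      rw [← QuotientGroup.mk_pow, hl]; rfl
    exact NIL_eq_one hq hs hqs hk hl'
  have h2 : x ∈ C := (QuotientGroup.eq_one_iff x).1 h1
  rw [hC, Subgroup.mem_centralizer_iff] at h2
  exact (h2 y ((hO y).2 ⟨hyY, hyq⟩)).symm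

end Cfsg.Agent.Lib.Helper85.Gross
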