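import Mathlib
import Cfsg.Prelude.Def_Solvable
import Cfsg.Agent.Lib.Helper85.Gross.NIL
import Cfsg.Agent.Lib.Helper85.Gross.BR
import Cfsg.Agent.Lib.Helper85.Gross.KC1
import Cfsg.Agent.Lib.Helper85.Gross.KC2

set_option autoImplicit false
set_option linter.unusedSectionVars false
set_option linter.unusedVariables false

namespace Cfsg.Agent.Lib.Helper85.Gross

open scoped commutatorElement
open Cfsg.Agent.Lib.Helper1.FPF
open Cfsg.Agent.Lib.Helper46.Shult
open MonoidHom (FixedPointFree)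

theorem K2c_cent_map {G : Type*} [Group G] (σ : MulAut G) (V : Subgroup G)
    (hVσ : V.map (σ : G →* G) = V) :
    (Subgroup.centralizer (V : Set G)).map (σ : G →* G) = Subgroup.centralizer (V : Set G) := by
  have hmem : ∀ v, v ∈ V ↔ σ v ∈ V := by
    intro v
    constructor
    · intro hv
      rw [← hVσ]; exact Subgroup.mem_map_of_mem _ hv
    · intro hv
      rw [← hVσ] at hv
      obtain ⟨w, hw, hwv⟩ := hv
      have : w = v := σ.injective hwv
      exact this ▸ hw
  apply le_antisymm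
  · rintro _ ⟨c, hc, rfl⟩
    rw [SetLike.mem_coe, Subgroup.mem_centralizer_iff] at hc
    rw [Subgroup.mem_centralizer_iff]
    intro v hv
    obtain ⟨w, rfl⟩ := σ.surjective v
    have := hc w ((hmem w).2 hv)
    show σ w * σ c = σ c * σ w
    rw [← map_mul, ← map_mul, this]
  · intro c hc
    obtain ⟨d, rfl⟩ := σ.surjective c
    refine ⟨d, ?_, rfl⟩
    rw [Subgroup.mem_centralizer_iff] at hc
    rw [SetLike.mem_coe, Subgroup.mem_centralizer_iff]
    intro v hv
    apply σ.injective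
    rw [map_mul, map_mul]
    exact hc (σ v) ((hmem v).1 hv)

/-- [K2c] -/
theorem K2c {G : Type*} [Group G] [Finite G] (σ : MulAut G) (n : ℕ) (hσ : σ ^ 2 ^ (n + 2) = 1)
    (hfpf : ∀ g, σ g = g → g = 1)
    (hgen : Subgroup.closure {y : G | ∃ g, y = (σ ^ 2 ^ (n + 1)) g * g⁻¹} = ⊤)
    {r : ℕ} (hr : r.Prime) (V : Subgroup G) [V.Normal] (hV : Cfsg.IsElementaryAbelian r V)
    (hVσ : V.map (σ : G →* G) = V)
    (hmin : ∀ M : Subgroup G, M.Normal → M.map (σ : G →* G) = M → M ≤ V → M = ⊥ ∨ M = V)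
    (Yb : Subgroup (G ⧸ V)) [Yb.Normal] (hYbσ : ∀ y ∈ Yb, quot σ V hVσ y ∈ Yb)
    (hYb : Group.IsNilpotent Yb) (hq : Group.IsNilpotent ((G ⧸ V) ⧸ Yb)) :
    Group.IsNilpotent (G ⧸ Subgroup.centralizer (V : Set G)) := by
  have hφ : FixedPointFree (σ : G ≃* G) := hfpf
  set C := Subgroup.centralizer (V : Set G) with hC
  have hCσ : C.map (σ : G →* G) = C := K2c_cent_map σ V hVσ
  have hVC : V ≤ C := by
    intro v hv
    rw [hC, Subgroup.mem_centralizer_iff]
    intro w hw
    exact congrArg Subtype.val (hV.1.is_comm.comm ⟨w, hw⟩ ⟨v, hv⟩)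
  have hVp : IsPGroup r V := by
    rintro ⟨x, hx⟩
    exact ⟨1, Subtype.ext (by simpa using hV.2 x hx)⟩
  let π : (G ⧸ V) →* (G ⧸ C) := QuotientGroup.map V C (MonoidHom.id G) hVC
  have hπ : ∀ g : G, π (g : G ⧸ V) = (g : G ⧸ C) := fun g => rfl
  have hπs : Function.Surjective π := by
    intro x
    obtain ⟨x, rfl⟩ := QuotientGroup.mk_surjective x
    exact ⟨(x : G ⧸ V), rfl⟩
  have hYn : (Yb.map π).Normal := Subgroup.Normal.map inferInstance π hπs
  refine NIL (quot σ C hCσ) n ?_ (quot_fpf hφ C hCσ) ?_ (Yb.map π) ?_ ?_ ?_ ?_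
  · ext x
    obtain ⟨x, rfl⟩ := QuotientGroup.mk_surjective x
    rw [K_quot_pow, hσ]
    rfl
  · rw [eq_top_iff]
    have h1 : (⊤ : Subgroup (G ⧸ C)) = (⊤ : Subgroup G).map (QuotientGroup.mk' C) :=
      (Subgroup.map_top_of_surjective _ (QuotientGroup.mk'_surjective C)).symm
    rw [h1, ← hgen, MonoidHom.map_closure, Subgroup.closure_le]
    rintro _ ⟨_, ⟨g, rfl⟩, rfl⟩
    apply Subgroup.subset_closure
    refine ⟨(g : G ⧸ C), ?_⟩
    rw [K_quot_pow]
    rfl
  · rintro _ ⟨y, hy, rfl⟩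
    refine ⟨quot σ V hVσ y, hYbσ y hy, ?_⟩
    obtain ⟨y, rfl⟩ := QuotientGroup.mk_surjective y
    rfl
  · exact Group.nilpotent_of_surjective (π.subgroupMap Yb) (π.subgroupMap_surjective Yb)
  · refine Group.nilpotent_of_surjective
      (QuotientGroup.map Yb (Yb.map π) π (Subgroup.le_comap_map π Yb)) ?_
    intro x
    obtain ⟨x, rfl⟩ := QuotientGroup.mk_surjective x
    obtain ⟨x, rfl⟩ := hπs x
    exact ⟨((x : G ⧸ V) : (G ⧸ V) ⧸ Yb), rfl⟩
  · intro q s hq' hs hqs Q hQn hQp hQσ S hSp hSσ a ha g hg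
    by_cases hqr : q = r
    · subst hqr
      have hPn : (Q.comap (QuotientGroup.mk' C)).Normal := hQn.comap _
      have hPσ : (Q.comap (QuotientGroup.mk' C)).map (σ : G →* G) = Q.comap (QuotientGroup.mk' C) := by
        apply map_eq_of_forall_mem
        intro x hx
        exact hQσ _ hx
      have h1 := KC1 σ hq' V hVp hVσ hmin (Q.comap (QuotientGroup.mk' C)) hPσ (by
        intro x hx
        obtain ⟨k, hk⟩ := hQp ⟨(x : G ⧸ C), hx⟩
        refine ⟨k, ?_⟩
        have h2 : ((x : G ⧸ C)) ^ q ^ k = 1 := by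
          have := congrArg Subtype.val hk
          simpa using this
        rw [← QuotientGroup.mk_pow] at h2
        exact (QuotientGroup.eq_one_iff _).1 h2)
      obtain ⟨g, rfl⟩ := QuotientGroup.mk_surjective g
      have h2 : ((g : G) : G ⧸ C) = 1 := (QuotientGroup.eq_one_iff _).2 (h1 hg)
      rw [h2, mul_one, one_mul]
    · let _ : CommGroup V :=
        { (inferInstance : Group V) with mul_comm := fun a b => hV.1.is_comm.comm a b }
      obtain ⟨c, hc, tw⟩ := KC2 σ V hVσ hCσ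
      exact BR (A := V) hq' hr hs hqr hqs (fun a => Subtype.ext (by simpa using hV.2 a a.2)) n
        (quot σ C hCσ)
        (by
          ext x
          obtain ⟨x, rfl⟩ := QuotientGroup.mk_surjective x
          rw [K_quot_pow, hσ]
          rfl)
        (quot_fpf hφ C hCσ) c hc (restr σ V hVσ)
        (by
          ext x
          rw [K_restr_pow, hσ]; rfl)
        tw (restr_fpf hφ V hVσ) Q hQp hQσ S hSp hSσ a ha g hg

end Cfsg.Agent.Lib.Helper85.Gross
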