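import Mathlib
import Cfsg.Agent.Lib.Helper46.Shult.K
import Cfsg.Agent.Lib.Helper85.Gross.K2b
import Cfsg.Agent.Lib.Helper85.Gross.K2c

set_option autoImplicit false
set_option linter.unusedSectionVars false
set_option linter.unusedVariables false

namespace Cfsg.Agent.Lib.Helper85.Gross

open scoped commutatorElement
open Cfsg.Agent.Lib.Helper1 Cfsg.Agent.Lib.Helper1.FPF
open Cfsg.Agent.Lib.Helper46.Shult
open MonoidHom (FixedPointFree)

universe u

/-- [K2] -/
theorem K2 (n N : ℕ) :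
    ∀ (G : Type u) [Group G] [Finite G] (σ : MulAut G), Group.IsSolvable G →
      σ ^ 2 ^ (n + 2) = 1 → (∀ g, σ g = g → g = 1) →
      Subgroup.closure {y : G | ∃ g, y = (σ ^ 2 ^ (n + 1)) g * g⁻¹} = ⊤ →
      Nat.card G = N →
      ∃ (Y : Subgroup G) (_ : Y.Normal), (∀ g ∈ Y, σ g ∈ Y) ∧ Group.IsNilpotent Y ∧
        Group.IsNilpotent (G ⧸ Y) := by
  induction N using Nat.strong_induction_on with
  | _ N ih =>
  intro G _ _ σ hsol hσ hfpf hgen hN
  subst hN
  by_cases hnt : Nontrivial G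
  swap
  · rw [not_nontrivial_iff_subsingleton] at hnt
    exact ⟨⊤, inferInstance, fun g _ => Subgroup.mem_top _, inferInstance, inferInstance⟩
  have hφ : FixedPointFree (σ : G ≃* G) := hfpf
  let S : Set (Subgroup G) := {S | S.Normal ∧ S.map (σ : G →* G) = S ∧ S ≠ ⊥}
  obtain ⟨V, hV⟩ := (Set.toFinite S).exists_minimal
    ⟨⊤, inferInstance, Subgroup.map_top_of_surjective _ σ.surjective, top_ne_bot⟩
  obtain ⟨hVn, hVφ, hVne⟩ := hV.prop
  have hmin : ∀ M : Subgroup G, M.Normal → M.map (σ : G →* G) = M → M ≤ V → M = ⊥ ∨ M = V := by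
    intro M h1 h2 h3
    by_cases hM0 : M = ⊥
    · exact Or.inl hM0
    · exact Or.inr (le_antisymm h3 (hV.le_of_le ⟨h1, h2, hM0⟩ h3))
  have hVsolv : Group.IsSolvable V := inferInstance
  have hlt := commutator_lt_of_isSolvable hVsolv hVne
  have hbot : ⁅V, V⁆ = ⊥ := by
    rcases hmin ⁅V, V⁆ inferInstance (by rw [Subgroup.map_commutator, hVφ]) hlt.le with h | h
    · exact h
    · exact absurd h hlt.ne
  have hcomm : ∀ x ∈ V, ∀ y ∈ V, x * y = y * x := by
    rw [Subgroup.commutator_eq_bot_iff_le_centralizer] at hbot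
    intro x hx y hy
    exact ((Subgroup.mem_centralizer_iff.1 (hbot hx)) y hy).symm
  have hcard : Nat.card V ≠ 1 := fun h => hVne (Subgroup.card_eq_one.1 h)
  let r := (Nat.card V).minFac
  have hr : r.Prime := Nat.minFac_prime hcard
  have : Fact r.Prime := ⟨hr⟩
  let Ω : Subgroup G :=
    { carrier := {x | x ∈ V ∧ x ^ r = 1}
      mul_mem' := by
        rintro a b ⟨ha, ha'⟩ ⟨hb, hb'⟩
        refine ⟨V.mul_mem ha hb, ?_⟩
        rw [(show Commute a b from hcomm a ha b hb).mul_pow, ha', hb', one_mul]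
      one_mem' := ⟨V.one_mem, one_pow _⟩
      inv_mem' := by
        rintro a ⟨ha, ha'⟩
        exact ⟨V.inv_mem ha, by rw [inv_pow, ha', inv_one]⟩ }
  have hΩn : Ω.Normal := by
    constructor
    rintro x ⟨hx, hx'⟩ g
    exact ⟨hVn.conj_mem x hx g, by rw [conj_pow, hx', mul_one, mul_inv_cancel]⟩
  have hΩle : Ω ≤ V := fun x hx => hx.1
  have hΩφ : Ω.map (σ : G →* G) = Ω := by
    apply le_antisymm
    · rintro _ ⟨x, ⟨hx, hx'⟩, rfl⟩
      refine ⟨by rw [← hVφ]; exact Subgroup.mem_map_of_mem _ hx, ?_⟩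
      rw [← map_pow, hx', map_one]
    · rintro x ⟨hx, hx'⟩
      rw [← hVφ] at hx
      obtain ⟨y, hy, rfl⟩ := hx
      refine ⟨y, ⟨hy, ?_⟩, rfl⟩
      apply σ.injective
      rw [map_pow, map_one]
      exact hx'
  obtain ⟨x, hx⟩ := exists_prime_orderOf_dvd_card' (G := V) r (Nat.minFac_dvd _)
  have hΩne : Ω ≠ ⊥ := by
    intro h
    have h1 : (x : G) ∈ Ω := ⟨x.2, by
      rw [← Subgroup.coe_pow, ← hx, pow_orderOf_eq_one, Subgroup.coe_one]⟩
    rw [h, Subgroup.mem_bot] at h1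
    have h2 : x = 1 := Subtype.ext h1
    rw [h2, orderOf_one] at hx
    exact hr.one_lt.ne hx
  have hVp : ∀ y ∈ V, y ^ r = 1 := by
    rcases hmin Ω hΩn hΩφ hΩle with h | h
    · exact absurd h hΩne
    · intro y hy
      rw [← h] at hy
      exact hy.2
  have hVel : Cfsg.IsElementaryAbelian r V :=
    ⟨⟨⟨fun a b => Subtype.ext (hcomm a a.2 b b.2)⟩⟩, hVp⟩
  -- the quotient
  obtain ⟨Yb, hYbn, hYbσ, hYbnil, hqnil⟩ :=
    ih _ (card_quotient_lt_of_ne_bot hVne) (G ⧸ V) (quot σ V hVφ) inferInstance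
      (by
        ext x
        obtain ⟨x, rfl⟩ := QuotientGroup.mk_surjective x
        rw [K_quot_pow, hσ]
        rfl)
      (quot_fpf hφ V hVφ)
      (by
        rw [eq_top_iff]
        have h1 : (⊤ : Subgroup (G ⧸ V)) = (⊤ : Subgroup G).map (QuotientGroup.mk' V) :=
          (Subgroup.map_top_of_surjective _ (QuotientGroup.mk'_surjective V)).symm
        rw [h1, ← hgen, MonoidHom.map_closure, Subgroup.closure_le]
        rintro _ ⟨_, ⟨g, rfl⟩, rfl⟩
        apply Subgroup.subset_closure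
        refine ⟨(g : G ⧸ V), ?_⟩
        rw [K_quot_pow]
        rfl)
      rfl
  have h2 := K2c σ n hσ hfpf hgen hr V hVel hVφ hmin Yb hYbσ hYbnil hqnil
  exact K2b σ V hVφ hcomm Yb hYbσ hYbnil hqnil h2

end Cfsg.Agent.Lib.Helper85.Gross
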