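import Mathlib
import Cfsg.Agent.Lib.Helper1.Cores
import Cfsg.Agent.Lib.Helper91.Fitting
import Cfsg.Agent.Lib.Helper85.Gross.K2

set_option autoImplicit false
set_option linter.unusedSectionVars false
set_option linter.unusedVariables false

namespace Cfsg.Agent.Lib.Helper85.Gross

open scoped commutatorElement
open Cfsg.Agent.Lib.Helper1.FPF
open Cfsg.Agent.Lib.Helper46.Shult

/-- [DL] -/
theorem DL {G : Type*} [Group G] [Finite G] (hG : Group.IsSolvable G) (σ : MulAut G) (n : ℕ)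
    (hσ : σ ^ 2 ^ (n + 2) = 1) (hfpf : ∀ g, σ g = g → g = 1) :
    ∃ D L : Subgroup G, D.Normal ∧ L.Normal ∧ L ≤ D ∧
      (∀ g, (σ ^ 2 ^ (n + 1)) g * g⁻¹ ∈ D) ∧ D.map (σ : G →* G) = D ∧
      (∃ k : ℕ, L.lowerCentralSeries k ≤ ⊥) ∧ (∃ k : ℕ, D.lowerCentralSeries k ≤ L) := by
  set τ : MulAut G := σ ^ 2 ^ (n + 1) with hτ
  set D := Subgroup.closure {y : G | ∃ g, y = τ g * g⁻¹} with hD
  have hcop := K_coprime Nat.prime_two σ (n + 2) hσ hfpf
  have hτp : τ ^ 2 = 1 := by rw [hτ, ← pow_mul, ← pow_succ, hσ]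
  have hDD := K_comm_comm τ hτp hcop D hD
  have hcomm : ∀ g, σ (τ g) = τ (σ g) := by
    intro g
    have : σ * τ = τ * σ := by rw [hτ, ← pow_succ', ← pow_succ]
    exact congrArg (fun f : MulAut G => f g) this
  have hDn : D.Normal := by
    constructor
    intro d hd x
    rw [hD] at hd ⊢
    induction hd using Subgroup.closure_induction with
    | mem y hy =>
      obtain ⟨g, rfl⟩ := hy
      have h1 : x * (τ g * g⁻¹) * x⁻¹ = (τ x * x⁻¹)⁻¹ * (τ (x * g) * (x * g)⁻¹) := by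
        rw [map_mul]; group
      rw [h1]
      exact Subgroup.mul_mem _ (Subgroup.inv_mem _ (Subgroup.subset_closure ⟨x, rfl⟩))
        (Subgroup.subset_closure ⟨x * g, rfl⟩)
    | one => simp
    | mul a b _ _ ha hb =>
      have : x * (a * b) * x⁻¹ = (x * a * x⁻¹) * (x * b * x⁻¹) := by group
      rw [this]; exact Subgroup.mul_mem _ ha hb
    | inv a _ ha =>
      have : x * a⁻¹ * x⁻¹ = (x * a * x⁻¹)⁻¹ := by group
      rw [this]; exact Subgroup.inv_mem _ ha
  have hDσ : D.map (σ : G →* G) = D := by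
    have hle : D.map (σ : G →* G) ≤ D := by
      rw [hD, MonoidHom.map_closure, Subgroup.closure_le]
      rintro _ ⟨_, ⟨g, rfl⟩, rfl⟩
      apply Subgroup.subset_closure
      refine ⟨σ g, ?_⟩
      show σ (τ g * g⁻¹) = _
      rw [map_mul, map_inv, hcomm]
    apply Subgroup.eq_of_le_of_card_ge hle
    rw [Subgroup.card_map_of_injective σ.injective]
  have hK2 : ∃ (Y : Subgroup D) (_ : Y.Normal), (∀ g ∈ Y, (restr σ D hDσ : MulAut D) g ∈ Y) ∧
      Group.IsNilpotent Y ∧ Group.IsNilpotent (D ⧸ Y) := by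
    refine K2 n _ D (restr σ D hDσ) inferInstance ?_ ?_ ?_ rfl
    · ext x
      rw [K_restr_pow, hσ]
      rfl
    · exact restr_fpf (φ := σ) hfpf D hDσ
    · rw [eq_top_iff]
      rintro ⟨x, hx⟩ -
      have hx1 := hDD hx
      have hmap : Subgroup.closure {y : G | ∃ d ∈ D, y = τ d * d⁻¹}
          ≤ (Subgroup.closure {y : D | ∃ g, y =
            ((restr σ D hDσ : MulAut D) ^ 2 ^ (n + 1)) g * g⁻¹}).map D.subtype := by
        rw [Subgroup.closure_le]
        rintro _ ⟨d, hd, rfl⟩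
        refine ⟨((restr σ D hDσ : MulAut D) ^ 2 ^ (n + 1)) ⟨d, hd⟩ * (⟨d, hd⟩ : D)⁻¹,
          Subgroup.subset_closure ⟨⟨d, hd⟩, rfl⟩, ?_⟩
        show ((((restr σ D hDσ : MulAut D) ^ 2 ^ (n + 1)) ⟨d, hd⟩ * (⟨d, hd⟩ : D)⁻¹ : D) : G) = _
        rw [Subgroup.coe_mul, K_restr_pow]
        rfl
      obtain ⟨z, hz, hzx⟩ := hmap hx1
      have : z = ⟨x, hx⟩ := Subtype.ext hzx
      rw [← this]
      exact hz
  obtain ⟨Y, hYn, -, hYnil, hQnil⟩ := hK2
  have hchar : (Cfsg.fittingSubgroup D).Characteristic :=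
    Cfsg.Agent.Lib.Helper1.fittingSubgroup_characteristic
  have hYF : Y ≤ Cfsg.fittingSubgroup D := Cfsg.Agent.Lib.Helper1.le_fittingSubgroup hYn hYnil
  refine ⟨D, (Cfsg.fittingSubgroup D).map D.subtype, hDn, ?_, Subgroup.map_subtype_le _, ?_, hDσ,
    ?_, ?_⟩
  · exact ConjAct.normal_of_characteristic_of_normal
  · intro g
    exact Subgroup.subset_closure ⟨g, rfl⟩
  · have hnil : Group.IsNilpotent (Cfsg.fittingSubgroup D) :=
      Cfsg.Agent.Lib.Helper91.fittingSubgroup_isNilpotent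
    obtain ⟨k, hk⟩ := (Subgroup.isNilpotent_iff_lowerCentralSeries _).1 hnil
    refine ⟨k, ?_⟩
    rw [← Subgroup.map_lowerCentralSeries, hk, Subgroup.map_bot]
  · obtain ⟨k, hk⟩ := Subgroup.nilpotent_iff_lowerCentralSeries.1 hQnil
    refine ⟨k, ?_⟩
    rw [← Subgroup.top_subtype_lowerCentralSeries]
    apply Subgroup.map_mono
    refine le_trans ?_ hYF
    have h1 : ((⊤ : Subgroup D).lowerCentralSeries k).map (QuotientGroup.mk' Y) = ⊥ := by
      rw [Subgroup.map_lowerCentralSeries, ← MonoidHom.range_eq_map,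
        MonoidHom.range_eq_top.2 (QuotientGroup.mk'_surjective Y), hk]
    intro x hx
    have h2 : QuotientGroup.mk' Y x ∈ ((⊤ : Subgroup D).lowerCentralSeries k).map
        (QuotientGroup.mk' Y) := Subgroup.mem_map_of_mem _ hx
    rw [h1, Subgroup.mem_bot] at h2
    exact (QuotientGroup.eq_one_iff x).1 h2

end Cfsg.Agent.Lib.Helper85.Gross
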