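import Mathlib
import Cfsg.Agent.Lib.Helper46.Shult.F

set_option autoImplicit false
set_option linter.unusedSectionVars false
set_option linter.unusedVariables false

namespace Cfsg.Agent.Lib.Helper85.Gross

open scoped commutatorElement
open Cfsg.Agent.Lib.Helper1.FPF

/-- [STEP] -/
theorem step {G : Type*} [Group G] [Finite G] (D L : Subgroup G) [D.Normal] [L.Normal]
    (hLD : L ≤ D) (hL : ∃ k : ℕ, L.lowerCentralSeries k ≤ ⊥)
    (hDL : ∃ k : ℕ, D.lowerCentralSeries k ≤ L) (m : ℕ)
    (h : ∃ F : Fin (m + 1) → Subgroup (G ⧸ D), F 0 = ⊥ ∧ F (Fin.last m) = ⊤ ∧ Monotone F ∧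
      (∀ i, (F i).Normal) ∧
      ∀ i : Fin m, ∃ k : ℕ, (F i.succ).lowerCentralSeries k ≤ F i.castSucc) :
    ∃ F : Fin (m + 2 + 1) → Subgroup G, F 0 = ⊥ ∧ F (Fin.last (m + 2)) = ⊤ ∧ Monotone F ∧
      (∀ i, (F i).Normal) ∧
      ∀ i : Fin (m + 2), ∃ k : ℕ, (F i.succ).lowerCentralSeries k ≤ F i.castSucc := by
  obtain ⟨Fb, hF0, hFl, hFm, hFn, hFs⟩ := h
  have hker : (⊥ : Subgroup (G ⧸ D)).comap (QuotientGroup.mk' D) = D := QuotientGroup.ker_mk' D
  have hDle : ∀ i, D ≤ (Fb i).comap (QuotientGroup.mk' D) := by
    intro i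
    exact hker.ge.trans (Subgroup.comap_mono bot_le)
  refine ⟨Fin.cons ⊥ (Fin.cons L (fun i => (Fb i).comap (QuotientGroup.mk' D))), rfl, ?_, ?_, ?_, ?_⟩
  · have : Fin.last (m + 2) = ((Fin.last m).succ).succ := rfl
    rw [this, Fin.cons_succ, Fin.cons_succ, hFl, Subgroup.comap_top]
  · intro i j hij
    induction i using Fin.cases with
    | zero => rw [Fin.cons_zero]; exact bot_le
    | succ i =>
      induction j using Fin.cases with
      | zero => exact absurd hij (by simp)
      | succ j =>
        rw [Fin.cons_succ, Fin.cons_succ]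
        have hij' : i ≤ j := Fin.succ_le_succ_iff.mp hij
        induction i using Fin.cases with
        | zero =>
          rw [Fin.cons_zero]
          induction j using Fin.cases with
          | zero => rw [Fin.cons_zero]
          | succ j => rw [Fin.cons_succ]; exact hLD.trans (hDle j)
        | succ i =>
          induction j using Fin.cases with
          | zero => exact absurd hij' (by simp)
          | succ j =>
            rw [Fin.cons_succ, Fin.cons_succ]
            exact Subgroup.comap_mono (hFm (Fin.succ_le_succ_iff.mp hij'))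
  · intro i
    induction i using Fin.cases with
    | zero => rw [Fin.cons_zero]; infer_instance
    | succ i =>
      rw [Fin.cons_succ]
      induction i using Fin.cases with
      | zero => rw [Fin.cons_zero]; infer_instance
      | succ i => rw [Fin.cons_succ]; exact (hFn i).comap _
  · intro i
    induction i using Fin.cases with
    | zero =>
      obtain ⟨k, hk⟩ := hL
      refine ⟨k, ?_⟩
      have h1 : (Fin.succ (0 : Fin (m + 2))) = Fin.succ (0 : Fin (m + 2)) := rfl
      rw [Fin.cons_succ, Fin.cons_zero]
      exact hk.trans bot_le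
    | succ i =>
      have hc : (Fin.succ i).castSucc = (Fin.castSucc i).succ := rfl
      rw [hc, Fin.cons_succ, Fin.cons_succ]
      induction i using Fin.cases with
      | zero =>
        obtain ⟨k, hk⟩ := hDL
        refine ⟨k, ?_⟩
        have hz : (Fin.castSucc (0 : Fin (m + 1))) = 0 := rfl
        rw [Fin.cons_succ, hz, Fin.cons_zero, hF0, hker]
        exact hk
      | succ i =>
        obtain ⟨k, hk⟩ := hFs i
        refine ⟨k, ?_⟩
        have hc2 : (Fin.succ i).castSucc = (Fin.castSucc i).succ := rfl
        rw [hc2, Fin.cons_succ, Fin.cons_succ, ← Subgroup.map_le_iff_le_comap,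
          Subgroup.map_lowerCentralSeries]
        exact (Subgroup.lowerCentralSeries_mono k (Subgroup.map_comap_le _ _)).trans hk

end Cfsg.Agent.Lib.Helper85.Gross
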