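import Mathlib
import Cfsg.Agent.S3794
import Cfsg.Agent.Lib.Helper85.Gross.DL
import Cfsg.Agent.Lib.Helper85.Gross.STEP

set_option autoImplicit false
set_option linter.unusedSectionVars false
set_option linter.unusedVariables false

namespace Cfsg.Agent.Lib.Helper85.Gross

open scoped commutatorElement
open Cfsg.Agent.Lib.Helper1.FPF

universe u

/-- [FIN] -/
theorem final2 (n : ℕ) :
    ∀ (G : Type u) [Group G] [Finite G], Group.IsSolvable G → ∀ σ : MulAut G,
      σ ^ 2 ^ (n + 2) = 1 → (∀ g : G, σ g = g → g = 1) →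
    ∃ F : Fin (2 * n + 2 + 1) → Subgroup G, F 0 = ⊥ ∧ F (Fin.last (2 * n + 2)) = ⊤ ∧ Monotone F ∧
      (∀ i, (F i).Normal) ∧
      ∀ i : Fin (2 * n + 2), ∃ k : ℕ, (F i.succ).lowerCentralSeries k ≤ F i.castSucc := by
  induction n with
  | zero =>
    intro G _ _ hG σ hσ hfpf
    have hnil : Group.IsNilpotent (commutator G) :=
      Cfsg.Agent.S3794.result hG σ (by simpa using hσ) hfpf
    obtain ⟨k, hk⟩ := (Subgroup.isNilpotent_iff_lowerCentralSeries _).1 hnil
    have hcn : (commutator G).Normal := by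
      unfold commutator
      infer_instance
    have hss : Subsingleton (G ⧸ (⊤ : Subgroup G)) := QuotientGroup.subsingleton_quotient_top
    have hbt : (⊥ : Subgroup (G ⧸ (⊤ : Subgroup G))) = ⊤ := by
      ext x
      simp [Subsingleton.elim x 1]
    have h := step (⊤ : Subgroup G) (commutator G) le_top ⟨k, hk.le⟩
      ⟨1, (Subgroup.top_lowerCentralSeries_one (G := G)).le⟩ 0
      ⟨fun _ => ⊥, rfl, hbt, fun _ _ _ => le_rfl, fun _ => inferInstance,
        fun i => i.elim0⟩
    exact h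
  | succ n ih =>
    intro G _ _ hG σ hσ hfpf
    obtain ⟨D, L, hDn, hLn, hLD, hτD, hmap, hL, hDL⟩ := DL hG σ (n + 1) hσ hfpf
    set σb : MulAut (G ⧸ D) := quot σ D hmap with hσb
    have hpow : σb ^ 2 ^ (n + 2) = 1 := by
      ext x
      obtain ⟨g, rfl⟩ := QuotientGroup.mk_surjective x
      rw [mulAut_pow_apply, hσb, quot_iterate, ← mulAut_pow_apply, MulAut.one_apply]
      rw [eq_comm, QuotientGroup.eq]
      have h3 := hτD g
      have h4 := hDn.conj_mem _ h3 g⁻¹
      have h5 : g⁻¹ * ((σ ^ 2 ^ (n + 1 + 1)) g * g⁻¹) * g⁻¹⁻¹ = g⁻¹ * (σ ^ 2 ^ (n + 1 + 1)) g := by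
        group
      rwa [h5] at h4
    have hfb : ∀ x : G ⧸ D, σb x = x → x = 1 := quot_fpf (φ := σ) hfpf D hmap
    have hsol : Group.IsSolvable (G ⧸ D) := inferInstance
    have h := step D L hLD hL hDL (2 * n + 2) (ih (G ⧸ D) hsol σb hpow hfb)
    exact h

end Cfsg.Agent.Lib.Helper85.Gross
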